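import Cfsg.Agent.INV.H3.Red0
import Cfsg.Agent.S2100
import Cfsg.Agent.SOLV.OddOrderCor

/-! The layer of `G` and the layer of `G / O(G)`. -/

set_option autoImplicit false
set_option maxHeartbeats 400000

namespace CL.G3S.RedB

open Subgroup Cfsg CL.Comp
open scoped commutatorElement

variable {G : Type*} [Group G]

theorem le_map {H : Type*} [Group H] (f : G →* H) (hf : Function.Surjective f)
    (hk : f.ker ≤ center G) : layer H ≤ (layer G).map f := by
  refine layer_le_iff.2 fun K hK => ?_
  have h2 : (⁅K.comap f, K.comap f⁆).map f = K := by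
    rw [map_commutator, map_comap_eq_self_of_surjective hf K, hK.commutator_self]
  have hc : ∀ {S : Set G}, f.ker ≤ centralizer S := fun {_} x hx y _ => mem_center_iff.1 (hk hx) y
  have h4 := commutator_sup_central (N := ⁅K.comap f, K.comap f⁆) (C := f.ker) hc
  rw [← comap_map_eq, h2] at h4
  have h5 : IsComponent ⁅K.comap f, K.comap f⁆ :=
    ⟨IsSubnormal.step _ _ (commutator_le_self _) (hK.1.comap f)
      ((normal_subgroupOf_iff_le_normalizer (commutator_le_self _)).2 (normalizer_commutator_ge_left _ _)),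
      IsQuasisimple.of_map f h4.symm (h2.symm ▸ hK.2) (inf_le_left.trans hc)⟩
  exact h2.ge.trans (map_mono h5.le_layer)

variable [Finite G] {L : Subgroup G}

theorem map_eq (h0 : ⁅L, oddCore G⁆ = ⊥)
    (e : normalClosure (L.map (QuotientGroup.mk' (oddCore G)) : Set (G ⧸ oddCore G)) = layer (G ⧸ oddCore G)) :
    (layer G).map (QuotientGroup.mk' (oddCore G)) = layer (G ⧸ oddCore G) := by
  have sj := QuotientGroup.mk'_surjective (oddCore G)
  refine le_antisymm (layer_map_le_of_surjective _ sj) fun y hy => ?_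
  have m : (normalClosure (L : Set G)).map (QuotientGroup.mk' (oddCore G)) = layer (G ⧸ oddCore G) := by
    rw [map_normalClosure _ _ sj, ← e, coe_map]
  have c : normalClosure (L : Set G) ≤ centralizer (oddCore G : Set G) :=
    normalClosure_le_normal (commutator_eq_bot_iff_le_centralizer.1 h0)
  let f : normalClosure (L : Set G) →* layer (G ⧸ oddCore G) :=
    ((QuotientGroup.mk' (oddCore G)).comp (Subgroup.subtype _)).codRestrict _ fun x => m.le ⟨x, x.2, rfl⟩
  obtain ⟨x, hx, ex⟩ := le_map f (fun z => by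
      obtain ⟨x, hx, ex⟩ := m.ge z.2
      exact ⟨⟨x, hx⟩, Subtype.ext ex⟩)
    (fun x hx => mem_center_iff.2 fun g => Subtype.ext
      (c g.2 x ((QuotientGroup.eq_one_iff _).1 (congrArg Subtype.val hx))).symm)
    ((layerOf_eq_self_iff.1 layerOf_layer).ge (mem_top ⟨y, hy⟩))
  exact ⟨x, layerOf_le_layer normalClosure_normal.isSubnormal ⟨x, hx, rfl⟩, congrArg Subtype.val ex⟩

theorem lift (_hp : ⁅L, L⁆ = L) (h0 : ⁅L, oddCore G⁆ = ⊥)
    (e : normalClosure (L.map (QuotientGroup.mk' (oddCore G)) : Set (G ⧸ oddCore G)) = layer (G ⧸ oddCore G))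
    (hc : centralizer (layer (G ⧸ oddCore G) : Set (G ⧸ oddCore G)) = ⊥) :
    Nonempty ((layer G ⧸ center (layer G)) ≃* layer (G ⧸ oddCore G)) := by
  have m := map_eq h0 e
  have c : layer G ≤ centralizer (oddCore G : Set G) := commutator_eq_bot_iff_le_centralizer.1
    (layer_commutator_eq_bot_of_isSolvable_normal (isSolvable_of_odd _ (Nat.coprime_two_right.1 (coprime_card_pPrimeCore 2 G))))
  let f : layer G →* layer (G ⧸ oddCore G) :=
    ((QuotientGroup.mk' (oddCore G)).comp (Subgroup.subtype _)).codRestrict _ fun x => m.le ⟨x, x.2, rfl⟩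
  have k : center (layer G) = f.ker := le_antisymm (fun x hx => Subtype.ext (hc.le (fun y hy => by
      obtain ⟨g, hg, rfl⟩ := m.ge hy
      exact congrArg (fun z : layer G => QuotientGroup.mk' (oddCore G) z) (mem_center_iff.1 hx ⟨g, hg⟩))))
    fun x hx => mem_center_iff.2 fun g => Subtype.ext
      (c g.2 x ((QuotientGroup.eq_one_iff _).1 (congrArg Subtype.val hx))).symm
  exact ⟨(QuotientGroup.quotientMulEquivOfEq k).trans (QuotientGroup.quotientKerEquivOfSurjective f fun z => by
    obtain ⟨x, hx, ex⟩ := m.ge z.2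
    exact ⟨⟨x, hx⟩, Subtype.ext ex⟩)⟩

theorem g29 {E : Type*} [Field E] [Fintype E] (hE : Fintype.card E = 9)
    (e : (layer G ⧸ center (layer G)) ≃* Lie.chevG2.group E) : Nonempty (layer G ≃* Lie.chevG2.group E) := by
  let σ : layer G →* Lie.chevG2.group E := e.toMonoidHom.comp (QuotientGroup.mk' _)
  have sj : Function.Surjective σ := e.surjective.comp (QuotientGroup.mk'_surjective _)
  obtain ⟨φ, hφ⟩ := Schur.exists_surj_ker (Agent.S2100.result (F := E) (by omega)) (ξ := σ) ⟨sj,
    fun x hx => (QuotientGroup.eq_one_iff x).1 (e.map_eq_one_iff.1 hx), le_top.trans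
      (map_injective (layer G).subtype_injective (by
        rw [map_subtype_commutator, commutator_layer_self, ← MonoidHom.range_eq_map, range_subtype])).le⟩
  exact ⟨MulEquiv.ofBijective σ ⟨(MonoidHom.ker_eq_bot_iff σ).1 (card_eq_one.1 (Nat.dvd_one.1
    ((card_dvd_of_surjective φ hφ).trans (Nat.card_zmod 1).dvd))), sj⟩⟩

end CL.G3S.RedB
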