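import Cfsg.Agent.INV.G3S.Nrm
import Cfsg.Agent.S3102
import Cfsg.Agent.S3100
import Cfsg.Agent.S1187
import Cfsg.Agent.S1742
import Cfsg.Agent.INV.WS.FinT

set_option autoImplicit false
set_option linter.unusedSectionVars false

namespace CL.G3S

open Subgroup
open CL.WS (Inn OI fix Cfg Cov Act CfG Wr)
open scoped commutatorElement

universe u

/-! Transfer, and the isomorphism type of the Sylow 2-subgroup of the simple group `X`. -/

variable {G : Type*} [Group G] [Finite G] {A : Type*} [Group A] {t : G} {L O R T X : Subgroup G} {π : L →* A}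

namespace Tr

theorem cyc2 {Q : Type*} [Group Q] [Finite Q] [IsCyclic Q] {a b : Q} (a2 : a * a = 1) (a1 : a ≠ 1)
    (b2 : b * b = 1) (b1 : b ≠ 1) : a = b := by
  classical
  have := Fintype.ofFinite Q
  by_contra h
  have h1 := IsCyclic.card_pow_eq_one_le (α := Q) (n := 2) two_pos
  have h2 : ({1, a, b} : Finset Q) ⊆ Finset.univ.filter fun x : Q => x ^ 2 = 1 := by
    intro x hx
    simp only [Finset.mem_insert, Finset.mem_singleton] at hx
    rcases hx with rfl | rfl | rfl <;> simp [pow_two, *]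
  have h3 := Finset.card_le_card h2
  rw [Finset.card_eq_three.2 ⟨1, a, b, a1.symm, b1.symm, h, rfl⟩] at h3
  omega

theorem pw {Q : Type*} [Group Q] {a : Q} {k : ℕ} (h : a ^ 2 ^ k = 1) (a1 : a ≠ 1) :
    ∃ n : ℕ, a ^ n * a ^ n = 1 ∧ a ^ n ≠ 1 := by
  induction k with
  | zero => exact absurd (by simpa using h) a1
  | succ k ih =>
    by_cases e : a ^ 2 ^ k = 1
    · exact ih e
    · exact ⟨2 ^ k, by rw [← pow_add, ← two_mul, ← pow_succ', h], e⟩

theorem conjL (M : Md A) (C : CfG t L π O) {ψ : P →* L} (hψ : ∀ p, π (ψ p) = M.φ p) {u v : P}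
    (u2 : u * u = 1) (u1 : u ≠ 1) (v2 : v * v = 1) (v1 : v ≠ 1) : ∃ l : L, l * ψ u * l⁻¹ = ψ v := by
  have o : ∀ {w : P}, w * w = 1 → w ≠ 1 → orderOf (M.φ w) = 2 := fun w2 w1 =>
    orderOf_eq_prime (by rw [pow_two, ← map_mul, w2, map_one])
      fun e => w1 (M.inj (e.trans (map_one _).symm))
  obtain ⟨a, ha⟩ := isConj_iff.1 ((M.one _ (o u2 u1)).symm.trans (M.one _ (o v2 v1)))
  obtain ⟨l, rfl⟩ := C.cov.onto a
  have s : ∀ x : L, x * x = 1 → IsPGroup 2 (zpowers (x : G)) := fun x e =>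
    Nrm.two (k := 1) (by rw [pow_one, pow_two]; exact congrArg Subtype.val e)
  refine ⟨l, C.cov.two_inj (s _ ?_) (s _ ?_) (by rw [map_mul, map_mul, map_inv, hψ, hψ, ha])⟩
  · rw [conj_mul, ← map_mul, u2, map_one, mul_one, mul_inv_cancel]
  · rw [← map_mul, v2, map_one]

end Tr

/-- `T` is a Sylow 2-subgroup of `G` (`Top.1`), `R ⊴ T` with cyclic quotient of 2-power order, `t ∉ R`, and no conjugate of `t` lies in `R` (`invs`, `not_conj_L`). Transfer `G → T / R`: `t` has an odd number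
of fixed points on `G / T`, each contributes the unique involution of `T / R`, the other orbits contribute `t² = 1`; so `t ∉` kernel, while the perfect group `X` lies in the kernel
(search the library: Thompson transfer, `CL.*.transfer`, pattern `WX.Fz.transfer`: `u ∈ X` an involution outside `N` gives `g` with `u^g u ∉ N`...). `R ≤ X ⊓ T` (`Top.2`); if `x ∈ X ⊓ T \ R`, a power of `x` is
congruent to `t` modulo `R` (cyclic 2-group), so `t ∈ X`. So `X ⊓ T = R` is Sylow in `X`. -/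
theorem transfer (M : Md A) (au : M.Au) (C : CfG t L π O) {ψ : P →* L} (b : Br t (L.subtype.comp ψ) R T)
    (top : Top L R T) [X.Normal] (hX : IsSimpleGroup X) (hL : L ≤ X) :
    t ∉ X ∧ ∃ S : Sylow 2 X, (S : Subgroup X).map X.subtype = R := by
  let T' : Sylow 2 G := ⟨T, b.pg, fun {Q} hQ hle => le_antisymm (top.1 Q hQ hle) hle⟩
  have hn : (R.subgroupOf T).Normal := ⟨fun y hy x => b.nrm x x.2 y hy⟩
  let ρ := QuotientGroup.mk' (R.subgroupOf T)
  have hρ : ∀ x : T, ρ x = 1 ↔ (x : G) ∈ R := fun x => QuotientGroup.eq_one_iff x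
  have hc : IsCyclic (T ⧸ R.subgroupOf T) := by
    obtain ⟨d, hd, h⟩ := b.cyc
    refine isCyclic_iff_exists_zpowers_eq_top.2 ⟨ρ ⟨d, hd⟩, (eq_top_iff' _).2 fun y => ?_⟩
    obtain ⟨x, rfl⟩ := QuotientGroup.mk'_surjective _ y
    obtain ⟨n, hn⟩ := h x x.2
    have e : ρ x * ρ ⟨d, hd⟩ ^ n = 1 := by
      rw [← map_pow, ← map_mul]; exact (hρ _).2 hn
    rw [show QuotientGroup.mk' _ x = (ρ ⟨d, hd⟩ ^ n)⁻¹ from eq_inv_of_mul_eq_one_left e]
    exact inv_mem (pow_mem (mem_zpowers _) n)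
  have t2 : t * t = 1 := by rw [← pow_two, ← C.t2, pow_orderOf_eq_one]
  have r2 : ρ ⟨t, b.tT⟩ * ρ ⟨t, b.tT⟩ = 1 := by
    rw [← map_mul, show (⟨t, b.tT⟩ : T) * ⟨t, b.tT⟩ = 1 from Subtype.ext t2, map_one]
  have r1 : ρ ⟨t, b.tT⟩ ≠ 1 := fun e => b.tR ((hρ _).1 e)
  have hXd : X ≤ ⁅(⊤ : Subgroup G), (⊤ : Subgroup G)⁆ := by
    have hLd : L ≤ ⁅(⊤ : Subgroup G), (⊤ : Subgroup G)⁆ :=
      C.cov.perf.ge.trans (commutator_mono le_top le_top)
    rcases (inferInstance : ((⁅(⊤ : Subgroup G), (⊤ : Subgroup G)⁆).subgroupOf X).Normal).eq_bot_or_eq_top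
      with e | e
    · have h1 : (⟨ψ pz, hL (ψ pz).2⟩ : X) ∈ (⊥ : Subgroup X) := e ▸ hLd (ψ pz).2
      exact absurd (b.inj ((congrArg Subtype.val (mem_bot.1 h1)).trans (map_one _).symm)) (by decide)
    · exact subgroupOf_eq_top.1 e
  have htX : t ∉ X := fun ht => b.tR (CL.WS.mem_of_transfer (F := ⊤) le_top
    (by rw [relIndex_top_right]; exact Nat.not_even_iff_odd.1 fun e => T'.not_dvd_index e.two_dvd)
    (commutator_le.2 fun x hx y hy => (hρ ⁅(⟨x, hx⟩ : T), (⟨y, hy⟩ : T)⁆).1 (by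
      rw [map_commutatorElement, commutatorElement_eq_one_iff_mul_comm]
      exact IsCyclic.commutative.is_comm.comm _ _)) b.tT t2 (hXd ht) fun g _ hg => by
    have c2 : g * t * g⁻¹ * (g * t * g⁻¹) = 1 := by rw [conj_mul, t2, mul_one, mul_inv_cancel]
    have h1 : g * t * g⁻¹ ∉ R := fun e => not_conj_L M au C (ψ pz).2
      ((isConj_iff.2 ⟨g, rfl⟩).trans (b.invs _ e
        (((MulAut.conj g).orderOf_eq t).trans C.t2)).symm)
    have h2 := Tr.cyc2 (a := ρ ⟨_, hg⟩) (by
      rw [← map_mul, show (⟨_, hg⟩ : T) * ⟨_, hg⟩ = 1 from Subtype.ext c2, map_one])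
      (fun e => h1 ((hρ _).1 e)) r2 r1
    exact (hρ (⟨_, hg⟩ * ⟨t, b.tT⟩)).1 (by rw [map_mul, h2, r2]))
  have hRX : R ≤ X := top.2 X inferInstance hL
  obtain ⟨S, hS⟩ := CL.exists_sylow_eq_subgroupOf_normal T' X
  refine ⟨htX, S, ?_⟩
  rw [hS, subgroupOf_map_subtype]
  refine le_antisymm (fun x hx => ?_) (le_inf b.le hRX)
  by_contra h
  obtain ⟨k, hk⟩ := b.pg ⟨x, hx.1⟩
  obtain ⟨n, n2, n1⟩ := Tr.pw (a := ρ ⟨x, hx.1⟩) (k := k) (by rw [← map_pow, hk, map_one])
    fun e => h ((hρ _).1 e)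
  have h3 : x ^ n * t ∈ R := (hρ (⟨x, hx.1⟩ ^ n * ⟨t, b.tT⟩)).1 (by
    rw [map_mul, map_pow, Tr.cyc2 n2 n1 r2 r1, r2])
  exact htX ((X.mul_mem_cancel_left (X.pow_mem hx.2 n)).1 (hRX h3))

/-- `S3102` for `X` (simple and non-abelian: no subgroup of index 2; no isolated involution by `Z*` = `S1187`, or directly: every involution of `S` is `G`-conjugate to `ψ z`, which commutes with its `L`-conjugate `ψ a²`),
`V` has rank 3, `U` is the normal four-group (its involutions are conjugate in `L`: lifts of conjugate involutions of `A`, `Cov.two_inj`), `no8`. `J₂` has Sylow order 128; `Ly` is excluded by `S3100` as `13 ∣ |L|`, `13 ∤ |Ly|`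
(order of `Ly`: search `card_Ly` / the statement with `51765179004000000`). So `S` is of type `G₂(q)`: as in `S1742.result`, `exists_sy` gives `φ` with `Sy φ`; `|W (Rn n)| = 4 (4·2^n)² = 256` gives `n = 1`;
`G2K.main`; `M₁₂` has Sylow order 64. Finally conjugate `φ` (`One.conj`) so that `φ zz = ψ z`. -/
theorem exists_one (M : Md A) (C : CfG t L π O) {ψ : P →* L} (hψ : ∀ p, π (ψ p) = M.φ p)
    (b : Br t (L.subtype.comp ψ) R T) [X.Normal] (hX : IsSimpleGroup X) (hL : L ≤ X) {S : Sylow 2 X}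
    (hS : (S : Subgroup X).map X.subtype = R) :
    ∃ φ : CL.G2S.W (CL.G2K.Rn 1) →* X, CL.G2K.One φ ∧ (φ (CL.G2S.zz (CL.G2K.hn 1)) : G) = ψ pz ∧
      Cfsg.oddCore (centralizer {φ (CL.G2S.zz (CL.G2K.hn 1))}) = ⊥ := by
  have mS : ∀ x : X, x ∈ (S : Subgroup X) ↔ (x : G) ∈ R := fun x => by
    rw [← hS]; exact (mem_map_iff_mem (subtype_injective X)).symm
  let j : P →* X := (inclusion hL).comp ψ
  let k : P →* S := j.codRestrict (S : Subgroup X) fun p => (mS _).2 (b.rng p)
  have hj : Function.Injective j := fun p q e => b.inj (congrArg X.subtype e)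
  have hk : Function.Injective k := fun p q e => hj (congrArg Subtype.val e)
  have cS : Nat.card S = 256 := by
    rw [← b.card, ← hS]; exact (card_map_of_injective (subtype_injective X)).symm
  have dX : 256 ∣ Nat.card X := cS ▸ card_subgroup_dvd_card (S : Subgroup X)
  have cj : ∀ {u v : P}, u * u = 1 → u ≠ 1 → v * v = 1 → v ≠ 1 → ∃ l : L,
      inclusion hL l * j u * (inclusion hL l)⁻¹ = j v := fun u2 u1 v2 v1 =>
    (Tr.conjL M C hψ u2 u1 v2 v1).imp fun l e => Subtype.ext (congrArg L.subtype e)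
  have oz : orderOf (j pz) = 2 := orderOf_eq_prime (by rw [← map_pow, show pz ^ 2 = 1 by decide, map_one])
    fun e => absurd (hj (e.trans (map_one _).symm)) (by decide)
  have nab : ¬ IsMulCommutative X := fun h =>
    absurd (hj (by rw [map_mul, map_mul]; exact h.is_comm.comm _ _ : j (pa * ps) = j (ps * pa))) (by decide)
  have key := Cfsg.Agent.S3102.result (X := X) (fun N hN e => by
      rcases hN.eq_bot_or_eq_top with rfl | rfl
      · rw [index_bot] at e
        rw [e] at dX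
        exact absurd dX (by decide)
      · rw [index_top] at e
        exact absurd e (by decide)) (fun z hz => ?_) S (fun h => ?_) (fun E hE h2 => ?_) (U.map k) ?_ ?_ ?_
  rotate_left
  · obtain ⟨S', hS'⟩ := (Nrm.two (x := z) (k := 1) (by rw [pow_one, ← hz.1, pow_orderOf_eq_one])).exists_le_sylow
    obtain ⟨c, rfl⟩ := MulAction.exists_smul_eq X S S'
    have h1 : c⁻¹ * z * c ∈ (S : Subgroup X) := by
      have := hS' (mem_zpowers z)
      rw [Sylow.coe_subgroup_smul, mem_pointwise_smul_iff_inv_smul_mem] at this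
      simpa using this
    have h2 := b.invs _ ((mS _).1 h1) (by
      rw [Subgroup.orderOf_coe, ← hz.1]
      simpa using (MulAut.conj c⁻¹).orderOf_eq z)
    obtain ⟨g, hg⟩ := isConj_iff.1 (h2.trans (isConj_iff.2 ⟨(c : G), rfl⟩))
    have hg' : g * (j pz : G) * g⁻¹ = z := hg.trans (by simp [mul_assoc])
    obtain ⟨l, hl⟩ := cj (u := pz) (v := pu) (by decide) (by decide) (by decide) (by decide)
    have hl' : (l : G) * j pz * (l : G)⁻¹ = j pu := congrArg Subtype.val hl
    have h3 : ((⟨g * l * g⁻¹, ‹X.Normal›.conj_mem _ (hL l.2) g⟩ * z * ⟨g * l * g⁻¹, ‹X.Normal›.conj_mem _ (hL l.2) g⟩⁻¹ : X) : G)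
        = g * (j pu : G) * g⁻¹ := by
      change g * l * g⁻¹ * z * (g * l * g⁻¹)⁻¹ = _
      rw [← hg', ← hl']; group
    have h4 := hz.2 ⟨g * l * g⁻¹, ‹X.Normal›.conj_mem _ (hL l.2) g⟩ (Subtype.ext (by
      rw [coe_mul, coe_mul X _ z, h3, ← hg', conj_mul, conj_mul, ← coe_mul, ← coe_mul, ← map_mul, ← map_mul,
        show pz * pu = pu * pz by decide]))
    have h5 := congrArg Subtype.val h4
    rw [h3, ← hg', mul_left_inj, mul_right_inj] at h5
    exact absurd (hj (Subtype.ext h5)) (by decide)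
  · have := h (V.map k) ⟨⟨by
      rintro ⟨_, u, hu, rfl⟩ ⟨_, v, hv, rfl⟩
      exact Subtype.ext (by
        change k u * k v = k v * k u
        rw [← map_mul, ← map_mul, (by decide +kernel : ∀ u ∈ V, ∀ v ∈ V, u * v = v * u) u hu v hv])⟩⟩ (by
      rintro _ ⟨u, hu, rfl⟩
      rw [← map_pow, (by decide +kernel : ∀ u ∈ V, u ^ 2 = 1) u hu, map_one])
    rw [card_map_of_injective hk, Nat.card_eq_fintype_card, (by decide +kernel : Fintype.card V = 8)] at this
    omega
  · let i : S →* G := X.subtype.comp (S : Subgroup X).subtype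
    have hi : Function.Injective i := (subtype_injective _).comp (subtype_injective _)
    rw [← card_map_of_injective hi]
    refine b.no8 _ ?_ ?_ ?_
    · rintro _ ⟨y, -, rfl⟩
      exact (mS _).1 y.2
    · rintro x hx _ ⟨y, hy, rfl⟩
      obtain ⟨x', hx', rfl⟩ := hS.ge hx
      exact ⟨_, hE.conj_mem y hy ⟨x', hx'⟩, rfl⟩
    · rintro _ ⟨y, hy, rfl⟩
      rw [← map_mul, ← pow_two, h2.2 y hy, map_one]
  · have h1 : Nat.card (U.map k) = 4 := by
      rw [card_map_of_injective hk, Nat.card_eq_fintype_card]; decide +kernel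
    have : Nontrivial (U.map k) := Finite.one_lt_card_iff_nontrivial.1 (by omega)
    refine ⟨h1, (Monoid.exponent_eq_prime_iff Nat.prime_two).2 ?_⟩
    rintro ⟨_, u, hu, rfl⟩ h
    refine orderOf_eq_prime (Subtype.ext ?_) h
    change k u ^ 2 = 1
    rw [← map_pow, (by decide +kernel : ∀ u ∈ U, u ^ 2 = 1) u hu, map_one]
  · refine ⟨?_⟩
    rintro _ ⟨u, hu, rfl⟩ x
    obtain ⟨u', hu', e⟩ := b.nU _ ((mS _).1 x.2) u hu
    exact ⟨u', hu', Subtype.ext (Subtype.ext e.symm)⟩
  · rintro _ ⟨u, hu, rfl⟩ _ ⟨v, hv, rfl⟩ u1 v1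
    have s := (by decide +kernel : ∀ u ∈ U, u * u = 1)
    obtain ⟨l, hl⟩ := cj (s u hu) (fun e => u1 (by rw [e, map_one])) (s v hv) (fun e => v1 (by rw [e, map_one]))
    exact isConj_iff.2 ⟨_, hl⟩
  rcases key with ⟨F, _, _, hF, P', ⟨e⟩⟩ | ⟨P', ⟨e⟩⟩ | h
  · have hF' : Odd (Fintype.card F) := Nat.odd_iff.2 (by omega)
    obtain ⟨n, φ, H⟩ := CL.G2S.exists_sy hF'
    have : Finite ↥(Cfsg.Lie.chevG2.group F) := Nat.finite_of_card_ne_zero (by
      have h1 : 1 < Fintype.card F := Fintype.one_lt_card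
      have h2 := Nat.one_lt_pow two_ne_zero h1
      have h3 := Nat.one_lt_pow (n := 6) (by decide) h1
      rw [Cfsg.Agent.S1059.result rfl]
      exact mul_ne_zero (mul_ne_zero (by positivity) (by omega)) (by omega))
    let e' := ((MonoidHom.ofInjective H.inj).trans (Sylow.equiv H.syl.toSylowTop P')).trans e.symm
    have hφ : CL.S64.Sy ((S : Subgroup X).subtype.comp e'.toMonoidHom) :=
      ⟨(Subgroup.subtype_injective _).comp e'.injective, by
      rw [MonoidHom.range_comp, MonoidHom.range_eq_top.2 e'.surjective, ← MonoidHom.range_eq_map,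
        Subgroup.range_subtype]
      exact CL.MSS.sylIn_top S⟩
    have hn : n = 1 := by
      have h1 := (Nat.card_congr e'.toEquiv).trans cS
      rw [CL.G2S.card_W, Nat.card_zmod] at h1
      have h2 : 2 ^ n = 2 ^ 1 := by
        have h3 : (4 * 2 ^ n) ^ 2 = 8 ^ 2 := by omega
        have h4 := Nat.pow_left_injective two_ne_zero h3
        omega
      exact Nat.pow_right_injective le_rfl h2
    generalize (S : Subgroup X).subtype.comp e'.toMonoidHom = χ at hφ
    subst hn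
    obtain ⟨-, O1 | ⟨⟨f⟩⟩⟩ := CL.G2K.main hφ
    · obtain ⟨g, hg⟩ := isConj_iff.1 (O1.one _ _ O1.oz oz)
      exact ⟨_, O1.conj g, congrArg Subtype.val hg,
        (map_eq_bot_iff_of_injective _ (subtype_injective _)).1 (CL.G2K.main (O1.conj g).sy).1⟩
    · rw [Nat.card_congr f.toEquiv, CL.MathMdl.card_M12] at dX
      exact absurd dX (by decide)
  · have h1 := card_subgroup_dvd_card (P' : Subgroup Cfsg.Spor.J2)
    rw [← Nat.card_congr e.toEquiv, cS, CL.J2.card_J2] at h1
    exact absurd h1 (by decide)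
  · obtain ⟨f⟩ := Cfsg.Agent.S3100.result nab S h
    have h1 := (card_dvd_of_surjective π C.cov.onto).trans (card_dvd_of_le hL)
    rw [M.card, Nat.card_congr f.toEquiv, CL.Ly.card] at h1
    exact absurd h1 (by decide)

end CL.G3S
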