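import Cfsg.Agent.INV.WX.Fin

/-! The wreathed configuration with 2-rank three: port of `WX/FinU`, `FinD1`, `FinD`, `Fin`. -/

set_option autoImplicit false
set_option linter.unusedSectionVars false
set_option maxHeartbeats 400000

namespace CL.WX.G6

open Subgroup CL.MSS
open CL.WS hiding HypA HypO Fz Fs Core
open CL.WR (Fn.sq Fn.ord Fn.ne Fn.cen Fn.two_sq Fn.two Pd)
open scoped commutatorElement

variable {G : Type*} [Group G] {A : Type*} [Group A]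

/-- the wreathed configuration -/
structure Gz (z c : A) (S : Sylow 2 A) (m : ℕ) (t : G) (L : Subgroup G) (π : L →* A)
    (O K : Subgroup G) (κ : K →* A) : Prop where
  hA : HypA z c S m
  cenC : ∀ α : MulAut A, (∀ a, Commute a z → α a = a) → α = 1 ∨ α = MulAut.conj z
  e8 : ∀ α : MulAut A, α * α = 1 → ∃ Y ≤ fix α, (∀ y ∈ Y, y * y = 1) ∧ 8 ≤ Nat.card Y
  rk : ∀ Y : Subgroup A, (∀ y ∈ Y, y * y = 1) → Nat.card Y ≤ 8
  small : ∀ α₀ : MulAut A, ¬ Inn α₀ → ∃ (α : MulAut A) (r q : ℕ), OI α ∧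
    (∀ Y ≤ fix α, IsPGroup 2 Y → Nat.card Y ≤ r) ∧
    (∀ β : MulAut A, OI β → ∃ Y ≤ fix β, IsPGroup 2 Y ∧ q ≤ Nat.card Y) ∧ 2 * r < m ∧ 2 * r ^ 2 < m * q
  C : CfG t L π O
  W : Wr t L K
  KO : ∀ x ∈ K, ∀ o ∈ O, Commute x o
  cov : Cov K κ
  diag : ∀ (x : K) (l : L), (l : G) = x * (t * x * t⁻¹) → π l = κ x

variable [Finite G] {z c : A}
  {S : Sylow 2 A} {m : ℕ} {t g h u : G} {L O K K' : Subgroup G} {π : L →* A} {κ : K →* A}

namespace Gz

variable (s : Gz z c S m t L π O K κ)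
include s

theorem tt : t * t = 1 := s.C.tt

theorem ti : t⁻¹ = t := inv_of_sq s.tt

theorem fin : Finite A := s.cov.finite

theorem exists_act (h : g ∈ normalizer (K : Set G)) : ∃ α, Act κ g α :=
  s.cov.exists_act (fun _ => s.hA.eq_one) h

theorem mem_N1 : g ∈ N1 t K ↔ ∃ x ∈ K, ∃ y ∈ K, ∃ c ∈ C0 t K, g = x * (t * y * t⁻¹) * c := by
  constructor
  · intro h
    have h1 : C0 t K ≤ normalizer ((K ⊔ K.map (MulAut.conj t).toMonoidHom : Subgroup G) : Set G) :=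
      le_normalizer_sup (fun c hc => centralizer_le_normalizer _ hc.1)
        (fun c hc => centralizer_le_normalizer _ (by
          rintro _ ⟨x, hx, rfl⟩
          exact (C0_comm' s.tt hc hx).symm.eq))
    have h2 : K ≤ normalizer ((K.map (MulAut.conj t).toMonoidHom : Subgroup G) : Set G) :=
      fun x hx => centralizer_le_normalizer _ (by
        rintro _ ⟨y, hy, rfl⟩
        exact (s.W.comm x hx y hy).symm.eq)
    obtain ⟨w, hw, c, hc, rfl⟩ := (mem_sup_of_normalizes_left h1).1 h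
    obtain ⟨x, hx, _, ⟨y, hy, rfl⟩, rfl⟩ := (mem_sup_of_normalizes_right h2).1 hw
    exact ⟨x, hx, y, hy, c, hc, rfl⟩
  · rintro ⟨x, hx, y, hy, c, hc, rfl⟩
    exact mul_mem (mul_mem (mem_sup_left (mem_sup_left hx)) (mem_sup_left (mem_sup_right ⟨y, hy, rfl⟩)))
      (mem_sup_right hc)

theorem K_le_H0 : K ≤ H0 t K := fun x hx =>
  mem_H0.2 ⟨le_normalizer hx, centralizer_le_normalizer _ fun y hy => (s.W.comm y hy x hx).eq⟩

theorem N1_le : N1 t K ≤ H0 t K := by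
  refine sup_le (sup_le s.K_le_H0 ?_) C0_le_H0
  rintro _ ⟨x, hx, rfl⟩
  exact conj_mem_H0 s.tt (s.K_le_H0 hx)

theorem act_tK {y : G} (hy : y ∈ K) : Act κ (t * y * t⁻¹) 1 :=
  Act.of_comm κ fun x hx => (s.W.comm x hx y hy).symm

theorem act_left (x : K) {y : G} (hy : y ∈ K) : Act κ (x * (t * y * t⁻¹)) (MulAut.conj (κ x)) := by
  simpa using (Act.self κ x).mul (s.act_tK hy)

theorem act_right {x : G} (hx : x ∈ K) (y : K) :
    Act κ (t * (x * (t * y * t⁻¹)) * t⁻¹) (MulAut.conj (κ y)) := by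
  have : t * (x * (t * y * t⁻¹)) * t⁻¹ = t * x * t⁻¹ * y := by
    conv_rhs => rw [← tt_conj s.tt (y : G)]
    group
  rw [this]
  simpa using (s.act_tK hx).mul (Act.self κ y)

theorem mem_C0_of_act (h1 : Act κ g 1) (h2 : Act κ (t * g * t⁻¹) 1) : g ∈ C0 t K :=
  mem_C0.2 ⟨fun x hx => (s.cov.comm_of_act h1 x hx).symm.eq,
    fun x hx => (s.cov.comm_of_act h2 x hx).symm.eq⟩

theorem mem_N1_iff {α β : MulAut A} (h1 : Act κ g α) (h2 : Act κ (t * g * t⁻¹) β) :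
    g ∈ N1 t K ↔ Inn α ∧ Inn β := by
  rw [s.mem_N1]
  constructor
  · rintro ⟨x, hx, y, hy, c, hc, rfl⟩
    have h3 := (s.act_left ⟨x, hx⟩ hy).mul (Act.of_comm κ fun _ => C0_comm hc)
    have h4 := (s.act_right hx ⟨y, hy⟩).mul (Act.of_comm κ fun _ => C0_comm (conj_mem_C0 s.tt hc))
    rw [show t * (x * (t * y * t⁻¹)) * t⁻¹ * (t * c * t⁻¹) = t * (x * (t * y * t⁻¹) * c) * t⁻¹ by group]
      at h4
    rw [s.cov.act_uniq h1 h3, s.cov.act_uniq h2 h4, mul_one, mul_one]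
    exact ⟨Inn.conj _, Inn.conj _⟩
  · rintro ⟨⟨a, rfl⟩, ⟨a', rfl⟩⟩
    obtain ⟨x, rfl⟩ := s.cov.onto a
    obtain ⟨y, rfl⟩ := s.cov.onto a'
    refine ⟨x, x.2, y, y.2, ((x : G) * (t * y * t⁻¹))⁻¹ * g, s.mem_C0_of_act ?_ ?_, by group⟩
    · simpa using (s.act_left x y.2).inv.mul h1
    · have := (s.act_right x.2 y).inv.mul h2
      rw [inv_mul_cancel] at this
      convert this using 1
      simp only [mul_inv_rev, inv_inv, mul_assoc, inv_mul_cancel_left]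

theorem inf_two {x : G} (h1 : x ∈ K) (h2 : t * x * t⁻¹ ∈ K) (h3 : IsPGroup 2 (zpowers x)) : x = 1 := by
  refine eq_one_of_odd_pg (s.cov.odd ⟨x, h1⟩ (s.hA.eq_one fun a => ?_)) h3
  obtain ⟨k, rfl⟩ := s.cov.onto a
  have := s.W.comm k k.2 _ h2
  rw [tt_conj s.tt] at this
  rw [← map_mul, ← map_mul, show (⟨x, h1⟩ : K) * k = k * ⟨x, h1⟩ from Subtype.ext this.eq.symm]

theorem odd_C0 : Odd (Nat.card (C0 t K)) := by
  by_contra h
  have hn : zpowers t ≤ normalizer (C0 t K : Set G) :=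
    zpowers_le.2 (mem_normalizer_fintype fun n hn => conj_mem_C0 s.tt hn)
  obtain ⟨Q, hQ, htQ⟩ := exists_sylIn_ge (Fn.two_sq s.tt) hn
  have h1 := hQ.inf_normal_of_le le_rfl le_normalizer
  have h2 := inf_centralizer_ne_bot (Fn.two_sq s.tt) h1.pgroup
    (le_normalizer_inf (htQ.trans le_normalizer) hn) (h1.ne_bot (Nat.not_odd_iff_even.1 h).two_dvd)
  obtain ⟨⟨c, hc⟩, hc1⟩ := ne_bot_iff_exists_ne_one.1 h2
  have hc1 : c ≠ 1 := fun e => hc1 (Subtype.ext e)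
  obtain ⟨m, h3, h4⟩ := exists_inv_pow fun ho => hc1 (eq_one_of_odd_pg ho (Fn.two hQ.pgroup hc.1.1))
  exact h4 (s.W.inv_eq_oneX s.hA s.C h3 (Commute.pow_left (hc.2 t (mem_zpowers t)).symm m)
    fun x hx => (C0_comm hc.1.2 hx).pow_left m)

theorem eq_one_of_C0 {c : G} (hc : c ∈ C0 t K) (h2 : IsPGroup 2 (zpowers c)) : c = 1 :=
  eq_one_of_odd_pg (s.odd_C0.of_dvd_nat ((C0 t K).orderOf_dvd_natCard hc)) h2

theorem uniq {K' : Subgroup G} (W' : Wr t L K') :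
    K' = K ∨ K' = K.map (MulAut.conj t).toMonoidHom := by
  have hA := s.hA
  obtain ⟨κ', D', d'⟩ := W'.exists_covX hA s.C
  obtain ⟨z₁, z2, hz⟩ := s.C.cov.lift_inv hA.zz
  have key : ∀ {K : Subgroup G} {κ : K →* A}, Wr t L K → Cov K κ →
      (∀ (x : K) (l : L), (l : G) = x * (t * x * t⁻¹) → π l = κ x) →
      ∃ x : K, (x : G) * x = 1 ∧ κ x = z ∧ (x : G) * (t * x * t⁻¹) = z₁ ∧
        ∀ l : L, Commute (π l) z → Commute (l : G) x := by
    intro K κ W D d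
    obtain ⟨x, x2, hx⟩ := D.lift_inv hA.zz
    have h1 : (x : G) * (t * x * t⁻¹) ∈ L := (W.diag _).2 ⟨x, x.2, rfl⟩
    refine ⟨x, x2, hx, congrArg Subtype.val (s.C.cov.two_inj (x := ⟨_, h1⟩) (y := z₁)
      (two_mul_of_comm (Fn.two_sq x2) (two_conj (Fn.two_sq x2) t) (W.comm x x.2 x x.2)) (Fn.two_sq z2)
      (by rw [d x ⟨_, h1⟩ rfl, hx, hz])), fun l hl => ?_⟩
    obtain ⟨y, hy, e⟩ := (W.diag l).1 l.2
    rw [e]
    refine Commute.mul_left (D.comm_two (Act.self κ ⟨y, hy⟩) (Fn.two_sq x2) ?_) (W.comm x x.2 y hy).symm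
    rw [← d ⟨y, hy⟩ l e, hx, MulAut.conj_apply, hl.eq, mul_inv_cancel_right]
  obtain ⟨x, x2, hx, e, c⟩ := key s.W s.cov s.diag
  obtain ⟨x', x2', hx', e', c'⟩ := key W' D' d'
  have xi := inv_of_sq x2
  have xi' := inv_of_sq x2'
  have ti := s.ti
  have z1 : (z₁ : G) ≠ 1 := fun h => hA.z1 (by rw [← hz, show z₁ = 1 from Subtype.ext h, map_one])
  have hw : Commute ((x : G) * x') t := by
    have h1 : (x : G) * t * x = x' * t * x' := by
      calc (x : G) * t * x = x * (t * x * t⁻¹) * t := by group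
        _ = x' * (t * x' * t⁻¹) * t := by rw [e, e']
        _ = _ := by group
    calc (x : G) * x' * t = x * (x' * t * x') * (x' : G)⁻¹ := by group
      _ = (x * x) * t * x * (x' : G)⁻¹ := by rw [← h1]; group
      _ = _ := by rw [x2, xi', one_mul, mul_assoc]
  obtain ⟨α, hα⟩ := s.C.cov.exists_act (fun _ => hA.eq_one) (s.C.norm _ hw)
  have hS : ∀ a, Commute a z → α a = a := fun a ha => by
    obtain ⟨l, rfl⟩ := s.C.cov.onto a
    obtain ⟨y, e1, e2⟩ := hα l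
    rw [← ((c l ha).mul_right (c' l ha)).eq, mul_inv_cancel_right] at e1
    rw [← e2, show y = l from Subtype.ext e1]
  -- `x' = o v` with `v` commuting with `o`
  have fin : ∀ v o : G, o ∈ O → (x' : G) = o * v → Commute o v → (v * v = 1 ∨ v * v = z₁) → (x' : G) = v := by
    intro v o ho h1 h2 h3
    have h4 : o * o * (v * v) = 1 := by rw [← x2', h1, h2.mul_mul_mul_comm]
    rcases h3 with h3 | h3
    · rw [h3, mul_one] at h4
      rw [h1, eq_one_of_odd_sq (s.C.odd_of_mem ho) h4, one_mul]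
    · rw [h3] at h4
      refine absurd (eq_one_of_odd_sq (s.C.odd_of_mem ?_) z2) z1
      rw [eq_inv_of_mul_eq_one_right h4]
      exact inv_mem (mul_mem ho ho)
  have xO : ∀ o ∈ O, Commute o (x : G) := fun o ho => (s.KO x x.2 o ho).symm
  have tO : ∀ o ∈ O, Commute o t := fun o ho => (s.C.tO o ho).symm
  have cx := s.W.comm x x.2 x x.2
  have main : (x' : G) = x ∨ (x' : G) = t * x * t⁻¹ := by
    have nsq : ∀ v : G, v * v = z₁ → (x' : G) ≠ v := fun v h1 h2 => z1 (by rw [← h1, ← h2, x2'])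
    rcases s.cenC α hS with rfl | rfl
    · rcases s.C.cen _ hw (s.C.cov.comm_of_act hα) with h | h
      · refine Or.inl (fin _ _ h ?_ (xO _ h) (Or.inl x2))
        rw [(xO _ h).eq, ← mul_assoc, x2, one_mul]
      · have h1 : (x : G) * t * (x * t) = z₁ := by rw [← e, ti]; group
        refine absurd (fin _ _ h ?_ ((xO _ h).mul_right (tO _ h)) (Or.inr h1)) (nsq _ h1)
        rw [← mul_assoc, (xO _ h).eq]
        calc (x' : G) = (x * x) * x' * (t * t) := by rw [x2, s.tt, one_mul, mul_one]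
          _ = _ := by group
    · have h0 := hα.mul (Act.self π z₁)
      rw [hz, ← map_mul, hA.zz, map_one] at h0
      have zx : (x : G) * z₁ = t * x * t⁻¹ := by rw [← e, ← mul_assoc, x2, one_mul]
      have sq : t * x * t⁻¹ * (t * x * t⁻¹) = 1 := by
        calc t * x * t⁻¹ * (t * x * t⁻¹) = t * (x * x) * t⁻¹ := by group
          _ = 1 := by rw [x2]; group
      have zO : ∀ o ∈ O, Commute o (z₁ : G) := fun o ho => (s.C.LO _ z₁.2 o ho).symm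
      rcases s.C.cen _ (hw.mul_left (s.C.tL _ z₁.2).symm) (s.C.cov.comm_of_act h0) with h | h
      · refine Or.inr (fin _ _ h ?_ (((tO _ h).mul_right (xO _ h)).mul_right (tO _ h).inv_right) (Or.inl sq))
        rw [← zx, ← mul_assoc, (xO _ h).eq]
        calc (x' : G) = (x * x) * x' * (z₁ * z₁) := by rw [x2, z2, one_mul, mul_one]
          _ = _ := by group
      · have h1 : t * (x : G) * (t * x) = z₁ := by rw [← e, cx.eq, ti]; group
        refine absurd (fin _ _ h ?_ ((tO _ h).mul_right (xO _ h)) (Or.inr h1)) (nsq _ h1)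
        have h2 : t * (x : G) = x * (z₁ * t) := by rw [← mul_assoc, zx]; group
        rw [h2, ← mul_assoc, (xO _ h).eq]
        calc (x' : G) = (x * x) * x' * (z₁ * (t * t) * z₁) := by rw [x2, s.tt, mul_one, z2, one_mul, mul_one]
          _ = x * (x * x' * z₁ * t) * (t * z₁) := by group
          _ = _ := by rw [(s.C.tL _ z₁.2).eq]
  have n1 : κ x ≠ 1 := hx ▸ hA.z1
  have n2 : κ' x' ≠ 1 := hx' ▸ hA.z1
  rcases main with h | h
  · exact Or.inl (le_antisymm (W'.le_of_memX hA s.W D' (h ▸ x.2) n2) (s.W.le_of_memX hA W' s.cov (h ▸ x'.2) n1))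
  · refine Or.inr (le_antisymm (W'.le_of_memX hA (s.W.swap s.tt) D' (h ▸ ⟨x, x.2, rfl⟩) n2) ?_)
    have h1 := s.W.le_of_memX hA (W'.swap s.tt) s.cov (x := x) ⟨x', x'.2, by
      change t * x' * t⁻¹ = _
      rw [h, tt_conj s.tt]⟩ n1
    rintro _ ⟨y, hy, rfl⟩
    obtain ⟨w, hw, rfl⟩ := h1 hy
    change t * (t * w * t⁻¹) * t⁻¹ ∈ K'
    rwa [tt_conj s.tt]

/-- the lift of a product of two 2-subgroups -/
theorem exists_prod {Y₁ Y₂ : Subgroup A} (h1 : IsPGroup 2 Y₁) (h2 : IsPGroup 2 Y₂) :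
    ∃ R : Subgroup G, IsPGroup 2 R ∧ Nat.card R = Nat.card Y₁ * Nat.card Y₂ ∧ ∀ r ∈ R, ∃ x y : K,
      r = x * (t * y * t⁻¹) ∧ κ x ∈ Y₁ ∧ κ y ∈ Y₂ ∧ IsPGroup 2 (zpowers (x : G)) ∧
        IsPGroup 2 (zpowers (y : G)) := by
  obtain ⟨j₁, i₁, k₁, p₁⟩ := s.cov.lift h1
  obtain ⟨j₂, i₂, k₂, p₂⟩ := s.cov.lift h2
  have m₁ : ∀ y, j₁ y ∈ K := fun y => by obtain ⟨x, e, -⟩ := k₁ y; exact e ▸ x.2
  have m₂ : ∀ y, j₂ y ∈ K := fun y => by obtain ⟨x, e, -⟩ := k₂ y; exact e ▸ x.2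
  let φ : Y₁ × Y₂ →* G := j₁.noncommCoprod ((MulAut.conj t).toMonoidHom.comp j₂)
    fun a c => s.W.comm _ (m₁ a) _ (m₂ c)
  have e : ∀ p, φ p = j₁ p.1 * (t * j₂ p.2 * t⁻¹) := fun _ => rfl
  have inj : Function.Injective φ := (injective_iff_map_eq_one _).2 fun p hp => by
    rw [e] at hp
    have h3 : j₂ p.2 = 1 := s.inf_two (m₂ _) (eq_inv_of_mul_eq_one_right hp ▸ inv_mem (m₁ _))
      (Fn.two p₂ ⟨_, rfl⟩)
    rw [h3, mul_one, mul_inv_cancel, mul_one] at hp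
    exact Prod.ext (i₁ (hp.trans (map_one _).symm)) (i₂ (h3.trans (map_one _).symm))
  refine ⟨φ.range, isPGroup_iff_forall_mem.2 ?_, ?_, ?_⟩
  · rintro _ ⟨p, rfl⟩
    exact exists_pow_two (two_mul_of_comm (Fn.two p₁ ⟨_, rfl⟩) (two_conj (Fn.two p₂ ⟨_, rfl⟩) t)
      (s.W.comm _ (m₁ _) _ (m₂ _)))
  · rw [← Nat.card_congr (MonoidHom.ofInjective inj).toEquiv, Nat.card_prod]
  · rintro _ ⟨p, rfl⟩
    obtain ⟨x, e1, e2⟩ := k₁ p.1
    obtain ⟨y, e3, e4⟩ := k₂ p.2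
    exact ⟨x, y, by rw [e, e1, e3], e2 ▸ p.1.2, e4 ▸ p.2.2, e1 ▸ Fn.two p₁ ⟨_, rfl⟩,
      e3 ▸ Fn.two p₂ ⟨_, rfl⟩⟩

theorem act_sq {u : G} {α : MulAut A} (h : Act κ u α) (u2 : u * u = 1) : α * α = 1 :=
  s.cov.act_uniq (u2 ▸ h.mul h) (Act.of_comm κ fun x _ => Commute.one_left x)

/-- elementary abelian subgroups of `C(t)` have order at most `32` -/
theorem rk32 {X : Subgroup G} (h1 : ∀ x ∈ X, Commute x t) (h2 : ∀ x ∈ X, x * x = 1) :
    Nat.card X ≤ 32 := by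
  have hA := s.hA
  have := s.fin
  have C := s.C.cov
  have ex : ∀ g ∈ normalizer (L : Set G), ∃ α, Act π g α := fun g hg => C.exists_act (fun _ => hA.eq_one) hg
  have ii : ∀ {g : G} {α : MulAut A}, Act π g α → (II π g ↔ Inn α) := fun h =>
    ⟨fun ⟨_, h1, h2⟩ => C.act_uniq h1 h ▸ h2, fun h2 => ⟨_, h, h2⟩⟩
  have sg : Sgn (normalizer (L : Set G)) (II π) := fun g hg h hh => by
    obtain ⟨α, hα⟩ := ex g hg
    obtain ⟨β, hβ⟩ := ex h hh
    rw [ii hα, ii hβ, ii (hα.mul hβ)]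
    by_cases h1 : Inn α
    · rw [h1.mul_iff_left]; tauto
    by_cases h2 : Inn β
    · rw [h2.mul_iff_right]; tauto
    · have := hA.out2 α β h1 h2; tauto
  obtain ⟨R, r1, r2, r3⟩ := sg.card (Q := X) fun x hx => s.C.norm x (h1 x hx)
  have : ∀ x : R, ∃ a, Act π x (MulAut.conj a) := fun x => by
    obtain ⟨_, h1, a, rfl⟩ := r2 x x.2; exact ⟨a, h1⟩
  choose ψ₀ hψ using this
  let ψ : R →* A := MonoidHom.mk' ψ₀ fun x y => hA.conj_inj (C.act_uniq (hψ (x * y)) (by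
    rw [map_mul]; exact (hψ x).mul (hψ y)))
  have c1 : Nat.card ψ.range ≤ 8 := s.rk _ (by
    rintro _ ⟨x, rfl⟩
    rw [← map_mul, show x * x = 1 from Subtype.ext (h2 x (r1 x.2)), map_one])
  have c2 : Nat.card ψ.ker ≤ Nat.card (zpowers t) := by
    have k : ∀ x : ψ.ker, ((x : R) : G) ∈ zpowers t := fun ⟨x, hx⟩ => by
      have h3 := hψ x
      rw [show ψ₀ x = 1 from hx, map_one] at h3
      have c := h1 x (r1 x.2)
      have x2 := h2 x (r1 x.2)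
      rcases s.C.cen _ c (C.comm_of_act h3) with h | h
      · rw [show ((x : R) : G) = 1 from eq_one_of_odd_sq (s.C.odd_of_mem h) x2]
        exact one_mem _
      · have h4 : (x : G) * t = 1 := eq_one_of_odd_sq (s.C.odd_of_mem h)
          (by rw [c.symm.mul_mul_mul_comm, x2, s.tt, one_mul])
        rw [show ((x : R) : G) = t⁻¹ from eq_inv_of_mul_eq_one_left h4]
        exact inv_mem (mem_zpowers t)
    exact Nat.card_le_card_of_injective (fun x => (⟨_, k x⟩ : zpowers t)) fun x y e =>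
      Subtype.ext (Subtype.ext (congrArg (fun w : zpowers t => (w : G)) e))
  rw [Nat.card_zpowers, s.C.t2] at c2
  have c3 := ψ.ker.card_mul_index
  rw [index_ker] at c3
  nlinarith

/-- `u = g t g⁻¹` would centralise an elementary abelian group of order `64`. -/
theorem swap (g : G) : g * t * g⁻¹ ∉ H0 t K := fun h => by
  obtain ⟨α, hα⟩ := s.exists_act h.1
  obtain ⟨β, hβ⟩ := s.exists_act (mem_H0.1 h).2
  obtain ⟨Y₁, l₁, e₁, c₁⟩ := s.e8 α (s.act_sq hα (sq_conj s.tt g))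
  obtain ⟨Y₂, l₂, e₂, c₂⟩ := s.e8 β (s.act_sq hβ (sq_conj (sq_conj s.tt g) t))
  have pg : ∀ {Y : Subgroup A}, (∀ y ∈ Y, y * y = 1) → IsPGroup 2 Y := fun {Y} hY y =>
    ⟨1, Subtype.ext (by rw [pow_one, pow_two]; exact hY y y.2)⟩
  obtain ⟨R, -, cR, hR⟩ := s.exists_prod (pg e₁) (pg e₂)
  have sq : ∀ x : K, IsPGroup 2 (zpowers (x : G)) → κ x * κ x = 1 → (x : G) * x = 1 := fun x px e =>
    eq_one_of_odd_pg (s.cov.odd (x * x) (by rw [map_mul, e]))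
      (Fn.two px (mul_mem (mem_zpowers _) (mem_zpowers _)))
  have h1 := s.rk32 (X := g⁻¹ •ᶜ R) (fun w hw => by
      obtain ⟨r, hr, rfl⟩ := mem_cj'.1 hw
      obtain ⟨x, y, rfl, hx, hy, px, py⟩ := hR r hr
      have h1 := (s.cov.comm_two hβ py (l₂ hy)).conj t
      rw [tt_conj s.tt] at h1
      have h2 := ((s.cov.comm_two hα px (l₁ hx)).mul_right h1).conj g⁻¹
      rw [show g⁻¹ * (g * t * g⁻¹) * g⁻¹⁻¹ = t by group] at h2
      exact h2.symm)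
    fun w hw => by
      obtain ⟨r, hr, rfl⟩ := mem_cj'.1 hw
      obtain ⟨x, y, rfl, hx, hy, px, py⟩ := hR r hr
      refine sq_conj ?_ _
      rw [(s.W.comm x x.2 y y.2).symm.mul_mul_mul_comm, sq x px (e₁ _ hx), sq_conj (sq y py (e₂ _ hy)), one_mul]
  rw [card_cj, cR] at h1
  nlinarith

theorem t_notMem : t ∉ H0 t K := by simpa using s.swap 1

theorem back (h : g * t * g⁻¹ ∈ HH t K) : g ∈ HH t K := by
  have ti := s.ti
  have h0 := ((mem_HH s.tt).1 h).resolve_left (s.swap g)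
  obtain ⟨κ', D'⟩ := s.cov.cj g⁻¹
  have W' : Wr t L (g⁻¹ •ᶜ K) := wr_of_commX s.hA s.C D' fun x hx y hy => by
    obtain ⟨a, ha, rfl⟩ := mem_cj'.1 hx
    obtain ⟨c, hc, rfl⟩ := mem_cj'.1 hy
    have h1 := (s.W.comm a ha _ ((mem_normalizer_iff.1 (mem_H0.1 h0).2 c).1 hc)).conj g⁻¹
    convert h1 using 1
    calc t * (g⁻¹ * c * g⁻¹⁻¹) * t⁻¹
        = g⁻¹ * (g * t * g⁻¹) * c * (g * t * g⁻¹)⁻¹ * g := by group
      _ = g⁻¹ * ((t * t) * (g * t * g⁻¹) * (t * t⁻¹ * 1)) * c *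
          ((t * t) * (g * t * g⁻¹) * (t * t⁻¹ * 1))⁻¹ * g := by rw [s.tt]; group
      _ = g⁻¹ * ((t * t) * (g * t * g⁻¹) * (t * t⁻¹ * (t * t)⁻¹ * (t * t))) * c *
          ((t * t) * (g * t * g⁻¹) * (t * t⁻¹ * (t * t)⁻¹ * (t * t)))⁻¹ * g := by group
      _ = _ := by group
  rcases s.uniq W' with e | e
  · have h1 : g⁻¹ ∈ normalizer (K : Set G) := mem_normalizer_iff_cj.2 e
    refine H0_le_HH (mem_H0.2 ⟨by simpa using inv_mem h1, ?_⟩)
    have := inv_mem (mul_mem h1 h0.1)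
    convert this using 1
    nth_rewrite 1 [← ti]
    group
  · have h1 : t⁻¹ * g⁻¹ ∈ normalizer (K : Set G) := mem_normalizer_iff_cj.2 (by
      rw [cj_mul, e]; exact inv_cj_cj t K)
    refine (mem_HH s.tt).2 (Or.inr (mem_H0.2 ⟨by simpa using inv_mem h1, ?_⟩))
    have := inv_mem (mul_mem h1 h0.1)
    convert this using 1
    nth_rewrite 1 [← ti]
    group

theorem le_HH {Q : Subgroup G} (hQ : IsPGroup 2 Q) (ht : t ∈ Q) : Q ≤ HH t K := by
  by_contra h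
  have h1 : Q ⊓ HH t K < Q := lt_of_le_of_ne inf_le_left fun e => h (e ▸ inf_le_right)
  obtain ⟨y, hy, hn⟩ := SetLike.exists_of_lt (lt_inf_normalizer_of_lt hQ h1)
  exact hn ⟨hy.1, s.back ((mem_normalizer_iff.1 hy.2 t).1 ⟨ht, t_mem_HH⟩).2⟩



theorem ii_iff {α : MulAut A} (h : Act κ g α) : II κ g ↔ Inn α :=
  ⟨fun ⟨_, h1, h2⟩ => s.cov.act_uniq h1 h ▸ h2, fun h2 => ⟨α, h, h2⟩⟩

theorem sgnN : Sgn (normalizer (K : Set G)) (II κ) := fun g hg h hh => by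
  obtain ⟨α, hα⟩ := s.exists_act hg
  obtain ⟨β, hβ⟩ := s.exists_act hh
  rw [s.ii_iff hα, s.ii_iff hβ, s.ii_iff (hα.mul hβ)]
  by_cases h1 : Inn α
  · rw [h1.mul_iff_left]; tauto
  by_cases h2 : Inn β
  · rw [h2.mul_iff_right]; tauto
  · have := s.hA.out2 α β h1 h2; tauto

theorem sgn1 : Sgn (H0 t K) (II κ) := fun g hg h hh => s.sgnN g hg.1 h hh.1

theorem sgn2 : Sgn (H0 t K) fun g => II κ (t * g * t⁻¹) := fun g hg h hh => by
  have := s.sgnN _ (mem_H0.1 hg).2 _ (mem_H0.1 hh).2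
  rwa [show t * g * t⁻¹ * (t * h * t⁻¹) = t * (g * h) * t⁻¹ by group] at this

theorem sgnH : Sgn (HH t K) fun g => g ∈ H0 t K := fun g hg h hh => by
  have ti := s.ti
  have k : ∀ {g}, g * t ∈ H0 t K → g ∉ H0 t K := fun {g} h1 h2 =>
    s.t_notMem (by simpa using mul_mem (inv_mem h2) h1)
  rcases (mem_HH s.tt).1 hg with h1 | h1 <;> rcases (mem_HH s.tt).1 hh with h2 | h2
  · simp [h1, h2, mul_mem h1 h2]
  · simp [h1, k h2, k (mul_assoc g h t ▸ mul_mem h1 h2)]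
  · have : g * h * t ∈ H0 t K := by
      have := mul_mem h1 (conj_mem_H0 s.tt h2)
      rwa [show g * t * (t * h * t⁻¹) = g * (t * t) * h * t⁻¹ by group, s.tt, mul_one, ti] at this
    simp [k h1, h2, k this]
  · have := mul_mem h1 (conj_mem_H0 s.tt h2)
    rw [show g * t * (t * (h * t) * t⁻¹) = g * (t * t) * h by group, s.tt, mul_one] at this
    simp [k h1, k h2, this]

theorem mem_N1' (hg : g ∈ H0 t K) : g ∈ N1 t K ↔ II κ g ∧ II κ (t * g * t⁻¹) := by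
  obtain ⟨α, hα⟩ := s.exists_act hg.1
  obtain ⟨β, hβ⟩ := s.exists_act (mem_H0.1 hg).2
  rw [s.mem_N1_iff hα hβ, s.ii_iff hα, s.ii_iff hβ]

/-- the product of two elements of the same type -/
theorem mul_mem_N1 (hg : g ∈ H0 t K) (hh : h ∈ H0 t K) (h1 : II κ g ↔ II κ h)
    (h2 : II κ (t * g * t⁻¹) ↔ II κ (t * h * t⁻¹)) : g * h ∈ N1 t K :=
  (s.mem_N1' (mul_mem hg hh)).2 ⟨(s.sgn1 g hg h hh).2 h1, (s.sgn2 g hg h hh).2 h2⟩

/-- `h · t h t⁻¹` is outer if `h` has mixed type -/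
theorem mixed (hh : h ∈ H0 t K) (hm : ¬ (II κ h ↔ II κ (t * h * t⁻¹))) :
    ¬ II κ (h * (t * h * t⁻¹)) ∧ ¬ II κ (t * (h * (t * h * t⁻¹)) * t⁻¹) := by
  have h1 := conj_mem_H0 s.tt hh
  refine ⟨fun e => hm ((s.sgn1 _ hh _ h1).1 e), fun e => hm ?_⟩
  have := (s.sgn2 _ hh _ h1).1 e
  simp only [tt_conj s.tt] at this
  exact this.symm

theorem exists_psi {Q : Type*} [Group Q] (f : Q →* G) (hf : ∀ x, II κ (f x)) :
    ∃ ψ : Q →* A, ∀ x, Act κ (f x) (MulAut.conj (ψ x)) := by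
  have : ∀ x, ∃ a, Act κ (f x) (MulAut.conj a) := fun x => by
    obtain ⟨_, h1, a, rfl⟩ := hf x; exact ⟨a, h1⟩
  choose ψ hψ using this
  refine ⟨MonoidHom.mk' ψ fun x y => s.hA.conj_inj (s.cov.act_uniq (hψ (x * y)) ?_), hψ⟩
  rw [map_mul, map_mul]
  exact (hψ x).mul (hψ y)

theorem psi_fix {α : MulAut A} {a : A} (hu : Act κ u α) (hh : Act κ h (MulAut.conj a))
    (hc : Commute u h) : a ∈ fix α := by
  have h1 := (hu.mul hh).mul hu.inv
  rw [hc.eq, mul_inv_cancel_right, conj_conj] at h1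
  exact s.hA.conj_inj (s.cov.act_uniq h1 hh)

/-- a 2-subgroup of `N1` commuting with a swapping element -/
theorem card_le_swap {Q : Subgroup G} (hQ : IsPGroup 2 Q) (hN : Q ≤ N1 t K) (hu : t * u ∈ H0 t K)
    (hc : ∀ x ∈ Q, Commute u x) : Nat.card Q ≤ Nat.card S := by
  have := s.fin
  obtain ⟨ψ, hψ⟩ := s.exists_psi Q.subtype fun x => ((s.mem_N1' (s.N1_le (hN x.2))).1 (hN x.2)).1
  have inj : Function.Injective ψ := (injective_iff_map_eq_one _).2 fun x hx => by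
    have h1 := hψ x
    rw [hx, map_one] at h1
    obtain ⟨α, hα⟩ := s.exists_act hu.1
    have h2 := (hα.mul h1).mul hα.inv
    rw [mul_one, mul_inv_cancel, show t * u * Q.subtype x * (t * u)⁻¹ = t * (u * x * u⁻¹) * t⁻¹ by
      simp [mul_assoc], (hc x x.2).eq, mul_inv_cancel_right] at h2
    exact Subtype.ext (s.eq_one_of_C0 (s.mem_C0_of_act h1 h2) (Fn.two hQ x.2))
  rw [Nat.card_congr (MonoidHom.ofInjective inj).toEquiv]
  exact (sylIn_top S).card_le (hQ.of_surjective _ ψ.rangeRestrict_surjective) le_top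

/-- a 2-subgroup of `N1` commuting with an element of `C(t)`; pattern `WS.Fz.card_le_out` -/
theorem card_le_out {Q : Subgroup G} (hQ : IsPGroup 2 Q) (hN : Q ≤ N1 t K) {α : MulAut A} {r : ℕ}
    (hα : Act κ u α) (hr : ∀ Y ≤ fix α, IsPGroup 2 Y → Nat.card Y ≤ r) (ut : Commute u t)
    (hc : ∀ x ∈ Q, Commute u x) : Nat.card Q ≤ r * r := by
  have := s.fin
  obtain ⟨ψ, hψ⟩ := s.exists_psi Q.subtype fun x => ((s.mem_N1' (s.N1_le (hN x.2))).1 (hN x.2)).1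
  obtain ⟨χ, hχ⟩ := s.exists_psi ((MulAut.conj t).toMonoidHom.comp Q.subtype)
    fun x => ((s.mem_N1' (s.N1_le (hN x.2))).1 (hN x.2)).2
  have inj : Function.Injective (ψ.rangeRestrict.prod χ.rangeRestrict) :=
    (injective_iff_map_eq_one _).2 fun x hx => by
      have h1 := hψ x
      have h2 := hχ x
      rw [show ψ x = 1 from congrArg (fun p => (p.1 : A)) hx, map_one] at h1
      rw [show χ x = 1 from congrArg (fun p => (p.2 : A)) hx, map_one] at h2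
      exact Subtype.ext (s.eq_one_of_C0 (s.mem_C0_of_act h1 h2) (Fn.two hQ x.2))
  refine (Nat.card_le_card_of_injective _ inj).trans ?_
  rw [Nat.card_prod]
  refine Nat.mul_le_mul (hr _ ?_ (hQ.of_surjective _ ψ.rangeRestrict_surjective))
    (hr _ ?_ (hQ.of_surjective _ χ.rangeRestrict_surjective))
  · rintro _ ⟨x, rfl⟩
    exact s.psi_fix hα (hψ x) (hc x x.2)
  · rintro _ ⟨x, rfl⟩
    exact s.psi_fix hα (hχ x) ((ut.mul_right (hc x x.2)).mul_right ut.inv_right)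

variable {F : Subgroup G} [F.Normal]

theorem K_le' (hL : L ≤ F) : K ≤ F := by
  refine s.W.perf.ge.trans (commutator_le.2 fun x hx y hy => ?_)
  have h1 : y * (t * y * t⁻¹) ∈ F := hL ((s.W.diag _).2 ⟨y, hy, rfl⟩)
  have h2 := mul_mem (‹F.Normal›.conj_mem _ h1 x) (inv_mem h1)
  have h3 := s.W.conj_eq hy (inv_mem hx)
  convert h2 using 1
  rw [commutatorElement_def, mul_assoc x, mul_assoc x, ← h3]
  group

/-- an involution congruent to an element of `N1` lies in `F` -/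
theorem mem_F (hL : L ≤ F) (u2 : u * u = 1) (hg : g ∈ N1 t K) (h1 : g⁻¹ * u ∈ F) : u ∈ F := by
  obtain ⟨x, hx, y, hy, c, hc, rfl⟩ := s.mem_N1.1 hg
  have h2 : ∀ w ∈ F, QuotientGroup.mk' F w = 1 := fun w hw => (QuotientGroup.eq_one_iff w).2 hw
  have h3 := h2 _ h1
  rw [map_mul, map_inv, inv_mul_eq_one, map_mul, map_mul, h2 x (s.K_le' hL hx),
    h2 _ (‹F.Normal›.conj_mem y (s.K_le' hL hy) t), one_mul, one_mul] at h3
  obtain ⟨k, hk⟩ := s.odd_C0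
  have h4 : c ^ (2 * k + 1) = 1 := by
    rw [← hk]; exact congrArg Subtype.val (pow_card_eq_one' (x := (⟨c, hc⟩ : C0 t K)))
  refine (QuotientGroup.eq_one_iff u).1 ?_
  have h5 := congrArg (· ^ (2 * k + 1)) h3
  simp only [← map_pow] at h5
  rw [h4, map_one, pow_succ, pow_mul, pow_two, u2, one_pow, one_mul] at h5
  exact h5.symm

theorem upper (F : Subgroup G) [F.Normal] (ut : Commute u t) :
    ∃ Q ≤ HH t K ⊓ F, IsPGroup 2 Q ∧ (∀ x ∈ Q, Commute u x) ∧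
      ∀ R ≤ F, IsPGroup 2 R → (∀ x ∈ R, Commute u x) → Nat.card R ≤ Nat.card Q := by
  obtain ⟨Q, hQ, ht⟩ := exists_sylIn_ge (Fn.two_sq s.tt) (zpowers_le.2 (Fn.cen.2 ut.symm.eq))
  have h1 := hQ.inf_normal (N := F) le_normalizer_of_normal
  exact ⟨Q ⊓ F, inf_le_inf_right F (s.le_HH hQ.pgroup (ht (mem_zpowers t))), h1.pgroup,
    fun x hx => (Fn.cen.1 (hQ.le hx.1) : Commute x u).symm,
    fun R h2 h3 h4 => h1.card_le h3 fun x hx => ⟨Fn.cen.2 (h4 x hx).symm.eq, h2 hx⟩⟩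

/-- lower bound for the centraliser of an involution of `H0`; pattern `WS.Fz.lower0` (`exists_prod`,
`comm_two`) -/
theorem lower0 (hL : L ≤ F) (u2 : u * u = 1) {α β : MulAut A} (hα : Act κ u α)
    (hβ : Act κ (t * u * t⁻¹) β) {Y₁ Y₂ : Subgroup A} (l₁ : Y₁ ≤ fix α) (l₂ : Y₂ ≤ fix β)
    (p₁ : IsPGroup 2 Y₁) (p₂ : IsPGroup 2 Y₂) : ∃ R ≤ F, R ≤ N1 t K ∧ IsPGroup 2 R ∧
      (∀ x ∈ R, Commute u x) ∧ Nat.card R = Nat.card Y₁ * Nat.card Y₂ := by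
  obtain ⟨R, pR, cR, hR⟩ := s.exists_prod p₁ p₂
  refine ⟨R, fun r hr => ?_, fun r hr => ?_, pR, fun r hr => ?_, cR⟩ <;> obtain ⟨x, y, rfl, hx, hy, px, py⟩ := hR r hr
  · exact mul_mem (s.K_le' hL x.2) (‹F.Normal›.conj_mem _ (s.K_le' hL y.2) t)
  · exact s.mem_N1.2 ⟨x, x.2, y, y.2, 1, one_mem _, (mul_one _).symm⟩
  · have := (s.cov.comm_two hβ py (l₂ hy)).conj t
    rw [tt_conj s.tt] at this
    exact (s.cov.comm_two hα px (l₁ hx)).mul_right this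

theorem back_conj {R : Subgroup G} (h1 : R ≤ F) (h2 : IsPGroup 2 R) (h3 : ∀ x ∈ R, Commute (g * u * g⁻¹) x) {n : ℕ}
    (h4 : n ≤ Nat.card R) : ∃ R ≤ F, IsPGroup 2 R ∧ (∀ x ∈ R, Commute u x) ∧ n ≤ Nat.card R := by
  refine ⟨g⁻¹ •ᶜ R, cj_le_iff_forall.2 fun x hx => ‹F.Normal›.conj_mem x (h1 hx) _, isPGroup_cj _ h2, fun x hx => ?_,
    by rwa [card_cj]⟩
  obtain ⟨w, hw, rfl⟩ := mem_cj'.1 hx
  have := (h3 w hw).conj g⁻¹
  rwa [show g⁻¹ * (g * u * g⁻¹) * g⁻¹⁻¹ = u by group] at this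

theorem big_ii (u2 : u * u = 1) {α : MulAut A} (hα : Act κ u α) (h : II κ u) :
    ∃ Y ≤ fix α, IsPGroup 2 Y ∧ m ≤ Nat.card Y := by
  have := s.fin
  obtain ⟨a, rfl⟩ := (s.ii_iff hα).1 h
  rw [fix_conj]
  exact s.hA.syl_m (s.hA.conj_inj (by rw [map_mul, s.act_sq hα u2, map_one]))

/-- type (inner, inner): `HypA.syl_m` twice, then conjugate back -/
theorem lower1 (hL : L ≤ F) (u2 : u * u = 1) (hu : g * u * g⁻¹ ∈ H0 t K)
    (h1 : II κ (g * u * g⁻¹)) (h2 : II κ (t * (g * u * g⁻¹) * t⁻¹)) :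
    ∃ R ≤ F, IsPGroup 2 R ∧ (∀ x ∈ R, Commute u x) ∧ m * m ≤ Nat.card R := by
  obtain ⟨α, hα⟩ := s.exists_act hu.1
  obtain ⟨β, hβ⟩ := s.exists_act (mem_H0.1 hu).2
  obtain ⟨Y₁, l₁, p₁, c₁⟩ := s.big_ii (sq_conj u2 g) hα h1
  obtain ⟨Y₂, l₂, p₂, c₂⟩ := s.big_ii (sq_conj (sq_conj u2 g) t) hβ h2
  obtain ⟨R, a, -, b, c, d⟩ := s.lower0 hL (sq_conj u2 g) hα hβ l₁ l₂ p₁ p₂
  exact s.back_conj a b c (d ▸ Nat.mul_le_mul c₁ c₂)

/-- mixed type: `R` from `lower0` has order `≥ m q`, lies in `N1`, and `g u g⁻¹ ∉ N1` is adjoined -/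
theorem lower2 (hL : L ≤ F) (u2 : u * u = 1) (uF : u ∈ F) (hu : g * u * g⁻¹ ∈ H0 t K) {q : ℕ}
    (hq : ∀ β : MulAut A, OI β → ∃ Y ≤ fix β, IsPGroup 2 Y ∧ q ≤ Nat.card Y)
    (h : ¬ (II κ (g * u * g⁻¹) ↔ II κ (t * (g * u * g⁻¹) * t⁻¹))) :
    ∃ R ≤ F, IsPGroup 2 R ∧ (∀ x ∈ R, Commute u x) ∧ 2 * (m * q) ≤ Nat.card R := by
  obtain ⟨α, hα⟩ := s.exists_act hu.1
  obtain ⟨β, hβ⟩ := s.exists_act (mem_H0.1 hu).2
  have v2 := sq_conj u2 g
  have w2 := sq_conj v2 t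
  obtain ⟨R, a, n, b, c, d⟩ : ∃ R ≤ F, R ≤ N1 t K ∧ IsPGroup 2 R ∧ (∀ x ∈ R, Commute (g * u * g⁻¹) x) ∧
      m * q ≤ Nat.card R := by
    by_cases h1 : II κ (g * u * g⁻¹)
    · obtain ⟨Y₁, l₁, p₁, c₁⟩ := s.big_ii v2 hα h1
      obtain ⟨Y₂, l₂, p₂, c₂⟩ := hq β ⟨fun e => h (iff_of_true h1 ((s.ii_iff hβ).2 e)), s.act_sq hβ w2⟩
      obtain ⟨R, a, n, b, c, d⟩ := s.lower0 hL v2 hα hβ l₁ l₂ p₁ p₂
      exact ⟨R, a, n, b, c, d ▸ Nat.mul_le_mul c₁ c₂⟩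
    · obtain ⟨Y₁, l₁, p₁, c₁⟩ := hq α ⟨fun e => h1 ((s.ii_iff hα).2 e), s.act_sq hα v2⟩
      obtain ⟨Y₂, l₂, p₂, c₂⟩ := s.big_ii w2 hβ (by tauto)
      obtain ⟨R, a, n, b, c, d⟩ := s.lower0 hL v2 hα hβ l₁ l₂ p₁ p₂
      exact ⟨R, a, n, b, c, by rw [d, mul_comm]; exact Nat.mul_le_mul c₁ c₂⟩
  have hn : g * u * g⁻¹ ∉ R := fun e => h (iff_of_true ((s.mem_N1' hu).1 (n e)).1 ((s.mem_N1' hu).1 (n e)).2)
  have vF := ‹F.Normal›.conj_mem u uF g
  generalize hv : g * u * g⁻¹ = v at *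
  have pR : IsPGroup 2 ↥(R ⊔ zpowers v) := IsPGroup.to_sup_of_normal_left' b (Fn.two_sq v2)
    (zpowers_le.2 (centralizer_le_normalizer _ fun x hx => (c x hx).eq.symm))
  refine s.back_conj (g := g) (sup_le a (zpowers_le.2 vF)) pR (fun x hx => hv ▸ (Fn.cen.1 ((sup_le
    (fun x hx => Fn.cen.2 (c x hx).eq.symm) (zpowers_le.2 (Fn.cen.2 rfl)) : _ ≤ centralizer {v}) hx)).symm) ?_
  obtain ⟨k, hk⟩ := card_dvd_of_le (le_sup_left : R ≤ R ⊔ zpowers v)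
  have k1 : k ≠ 1 := fun e => hn ((eq_of_le_of_card_ge le_sup_left (by rw [hk, e, mul_one])).ge (mem_sup_right (mem_zpowers v)))
  have k0 : k ≠ 0 := fun e => Nat.card_pos.ne' (by rw [hk, e, mul_zero])
  rw [hk, mul_comm]
  exact Nat.mul_le_mul d (by omega)



theorem K_le (hL : L ≤ F) : K ≤ F := s.K_le' hL

theorem exists_syl (F : Subgroup G) [F.Normal] :
    ∃ T ≤ HH t K ⊓ F, IsPGroup 2 T ∧ Odd (T.relIndex F) := by
  obtain ⟨Q, hQ, ht⟩ := exists_sylIn_ge (Fn.two_sq s.tt) (le_top : zpowers t ≤ ⊤)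
  have h1 := hQ.inf_normal_of_le (N := F) le_normalizer_of_normal le_top
  exact ⟨Q ⊓ F, inf_le_inf_right F (s.le_HH hQ.pgroup (ht (mem_zpowers t))), h1.pgroup,
    Nat.odd_iff.2 (by have := h1.not_dvd_relIndex; omega)⟩

theorem transfer (hF : IsSimpleGroup F) (hL : L ≤ F) {N : Subgroup G}
    (hN : ∀ g ∈ HH t K ⊓ F, ∀ h ∈ HH t K ⊓ F, ⁅g, h⁆ ∈ N) {u : G} (hu : u ∈ HH t K ⊓ F)
    (u2 : u * u = 1) (hn : u ∉ N) : ∃ g, g * u * g⁻¹ ∈ HH t K ⊓ F ∧ g * u * g⁻¹ * u ∉ N := by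
  by_contra hc
  push Not at hc
  obtain ⟨T, h1, -, h2⟩ := s.exists_syl F
  refine hn (mem_of_transfer (F := F) inf_le_right (h2.of_dvd_nat (relIndex_dvd_of_le_left F h1))
    (commutator_le.2 hN) hu u2 ?_ fun g _ => hc g)
  rcases (inferInstance : (commutator F).Normal).eq_bot_or_eq_top with e | e
  · have h3 : ⁅F, F⁆ = ⊥ := by rw [← map_subtype_commutator, e, Subgroup.map_bot]
    have h4 : K = ⊥ := by
      rw [eq_bot_iff, ← s.W.perf, ← h3]; exact commutator_mono (s.K_le hL) (s.K_le hL)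
    exact (s.W.not_cenX s.hA s.C fun x hx => by
      rw [h4, mem_bot] at hx; rw [hx]; exact Commute.one_right t).elim
  · rw [← map_subtype_commutator, e]
    exact ⟨⟨u, hu.2⟩, mem_top _, rfl⟩

theorem mul_t {g : G} (hg : g ∈ HH t K) : g * t ∈ H0 t K ↔ g ∉ H0 t K := by
  have := s.sgnH g hg t t_mem_HH
  have := s.t_notMem
  tauto

theorem step1 (hF : IsSimpleGroup F) (hL : L ≤ F) : t ∉ F := fun ht => by
  obtain ⟨g, h1, h2⟩ := s.transfer hF hL (N := H0 t K) (fun g hg h hh => s.sgnH.comm hg.1 hh.1)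
    ⟨t_mem_HH, ht⟩ s.tt s.t_notMem
  exact h2 ((s.mul_t h1.1).2 (s.swap g))

theorem step2 (hF : IsSimpleGroup F) (hL : L ≤ F) {h : G} (hh : h ∈ F) : h * t ∉ N1 t K := fun hn =>
  s.step1 hF hL (s.mem_F hL s.tt hn (by
    simpa [mul_assoc] using ‹F.Normal›.conj_mem _ (inv_mem hh) t⁻¹))

theorem step5 (hF : IsSimpleGroup F) (hL : L ≤ F) {u : G} (u2 : u * u = 1) (uF : u ∈ F)
    (ut : Commute u t) : u * t ∉ H0 t K := fun hu => by
  have e : t * (u * t) * t⁻¹ = u * t := by rw [← mul_assoc, ← ut.eq]; group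
  have ho : ¬ II κ (u * t) := fun hi => s.step2 hF hL uF ((s.mem_N1' hu).2 ⟨hi, e.symm ▸ hi⟩)
  have h1 : ∀ h ∈ F, h ∈ H0 t K → ¬ II κ h → II κ (t * h * t⁻¹) := fun h hF' hh h2 => by
    by_contra h3
    refine s.step2 hF hL (mul_mem uF hF') ?_
    have := s.mul_mem_N1 hu (conj_mem_H0 s.tt hh) (by tauto) (by rw [e, tt_conj s.tt]; tauto)
    rwa [show u * t * (t * h * t⁻¹) = u * (t * t) * h * t⁻¹ by group, s.tt, mul_one, s.ti] at this
  have h2 : ∀ h ∈ F, h ∈ H0 t K → h ∈ N1 t K := fun h hF' hh => by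
    by_cases hm : II κ h ↔ II κ (t * h * t⁻¹)
    · have := h1 h hF' hh
      exact (s.mem_N1' hh).2 (by tauto)
    · obtain ⟨h3, h4⟩ := s.mixed hh hm
      exact absurd (h1 _ (mul_mem hF' (‹F.Normal›.conj_mem h hF' t))
        (mul_mem hh (conj_mem_H0 s.tt hh)) h3) h4
  have uH : u ∈ HH t K := (mem_HH s.tt).2 (Or.inr hu)
  have un := (s.mul_t uH).1 hu
  obtain ⟨g, h3, h4⟩ := s.transfer hF hL (N := H0 t K) (fun g hg h hh => s.sgnH.comm hg.1 hh.1)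
    ⟨uH, uF⟩ u2 un
  have h5 : g * u * g⁻¹ ∈ H0 t K := by
    have := s.sgnH _ h3.1 _ uH
    tauto
  obtain ⟨R, r1, r2, r3, r4⟩ := s.lower1 hL u2 h5 ((s.mem_N1' h5).1 (h2 _ h3.2 h5)).1
    ((s.mem_N1' h5).1 (h2 _ h3.2 h5)).2
  obtain ⟨Q, q1, q2, q3, q4⟩ := s.upper F ut
  obtain ⟨Q₁, p1, p2, p3⟩ := s.sgnH.card (q1.trans inf_le_left)
  have h6 := s.card_le_swap (q2.to_le p1) (fun x hx => h2 x (q1 (p1 hx)).2 (p2 x hx)) (ut.eq ▸ hu)
    fun x hx => q3 x (p1 hx)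
  have h7 := q4 R r1 r2 r3
  have n1 := s.hA.num
  rw [pow_two] at n1
  omega

theorem step6 (hF : IsSimpleGroup F) (hL : L ≤ F) {u : G} (u2 : u * u = 1) (uF : u ∈ F)
    (ut : Commute u t) (hu : u ∈ H0 t K) {α : MulAut A} {r q : ℕ} (hα : Act κ u α) (ho : ¬ II κ u)
    (hr : ∀ Y ≤ fix α, IsPGroup 2 Y → Nat.card Y ≤ r)
    (hq : ∀ β : MulAut A, OI β → ∃ Y ≤ fix β, IsPGroup 2 Y ∧ q ≤ Nat.card Y) (n1 : 2 * r < m)
    (n2 : 2 * r ^ 2 < m * q) : False := by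
  have e : t * u * t⁻¹ = u := by rw [← ut.eq, mul_inv_cancel_right]
  have h1 : ∀ w ∈ F, w * t ∈ H0 t K → ¬ (II κ (w * t) ↔ II κ (t * (w * t) * t⁻¹)) := fun w wF hw hm => by
    by_cases hi : II κ (w * t)
    · exact s.step2 hF hL wF ((s.mem_N1' hw).2 ⟨hi, hm.1 hi⟩)
    · refine s.step2 hF hL (mul_mem wF uF) ?_
      have := s.mul_mem_N1 hw hu (by tauto) (by rw [e]; tauto)
      rwa [mul_assoc, ← ut.eq, ← mul_assoc] at this
  have h2 : ∀ w ∈ HH t K ⊓ F, w * w = 1 → w ∈ H0 t K := fun w hw w2 => by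
    by_contra hn
    have h3 := (s.mul_t hw.1).2 hn
    refine (s.mixed h3 (h1 w hw.2 h3)).1 ?_
    rw [show w * t * (t * (w * t) * t⁻¹) = w * (t * t) * w by group, s.tt, mul_one, w2]
    exact s.sgnN.one
  have h3 : HH t K ⊓ F ≤ H0 t K ∨ ∀ k ∈ F, k ∈ H0 t K → (II κ k ↔ II κ (t * k * t⁻¹)) := by
    refine or_iff_not_imp_left.2 fun hn k kF hk => ?_
    obtain ⟨w, hw, hn⟩ := SetLike.not_le_iff_exists.1 hn
    have h4 := (s.mul_t hw.1).2 hn
    have h5 := h1 w hw.2 h4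
    have h6 := h1 (k * w) (mul_mem kF hw.2) (mul_assoc k w t ▸ mul_mem hk h4)
    rw [mul_assoc k w t] at h6
    have := s.sgn1 _ hk _ h4
    have := s.sgn2 _ hk _ h4
    tauto
  have h4 : ∀ g ∈ HH t K ⊓ F, ∀ h ∈ HH t K ⊓ F, ⁅g, h⁆ ∈ N1 t K := by
    rcases h3 with h3 | h3
    · exact fun g hg h hh => (s.mem_N1' (s.sgnH.comm hg.1 hh.1)).2
        ⟨s.sgn1.comm (h3 hg) (h3 hh), s.sgn2.comm (h3 hg) (h3 hh)⟩
    have k1 : ∀ g ∈ HH t K ⊓ F, ∀ h ∈ HH t K ⊓ F, g ∈ H0 t K → ⁅g, h⁆ ∈ N1 t K := fun g hg h hh g0 => by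
      have c0 := s.sgnH.comm hg.1 hh.1
      have cF : ⁅g, h⁆ ∈ F := (commutator_le_left F ⊤) (commutator_mem_commutator hg.2 (mem_top h))
      have : II κ ⁅g, h⁆ := by
        by_cases h0 : h ∈ H0 t K
        · exact s.sgn1.comm g0 h0
        have h5 := (s.mul_t hh.1).2 h0
        have e1 : ⁅g, h⁆ = g * (h * t * (t * g * t⁻¹)⁻¹ * (h * t)⁻¹) := by
          calc ⁅g, h⁆ = g * (h * (t * t) * g⁻¹ * (t * t)⁻¹ * h⁻¹) := by
                rw [s.tt, commutatorElement_def]; group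
            _ = _ := by group
        have g1 := conj_mem_H0 s.tt g0
        rw [e1, s.sgn1 _ g0 _ (mul_mem (mul_mem h5 (inv_mem g1)) (inv_mem h5)),
          s.sgn1.conj h5 (inv_mem g1), s.sgn1.inv g1]
        exact h3 g hg.2 g0
      exact (s.mem_N1' c0).2 ⟨this, (h3 _ cF c0).1 this⟩
    intro g hg h hh
    by_cases g0 : g ∈ H0 t K
    · exact k1 g hg h hh g0
    by_cases h0 : h ∈ H0 t K
    · rw [← commutatorElement_inv]; exact inv_mem (k1 h hh g hg h0)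
    · have := k1 (g * h⁻¹) (mul_mem hg (inv_mem hh)) h hh (by
        have := s.sgnH g hg.1 h⁻¹ (inv_mem hh.1)
        have := s.sgnH.inv hh.1
        tauto)
      rwa [show ⁅g * h⁻¹, h⁆ = ⁅g, h⁆ by simp only [commutatorElement_def]; group] at this
  obtain ⟨g, h5, h6⟩ := s.transfer hF hL h4 ⟨H0_le_HH hu, uF⟩ u2 fun hn => ho ((s.mem_N1' hu).1 hn).1
  have h7 := h2 _ h5 (sq_conj u2 g)
  obtain ⟨R, r1, r2, r3, r4⟩ : ∃ R ≤ F, IsPGroup 2 R ∧ (∀ x ∈ R, Commute u x) ∧ 4 * (r * r) < Nat.card R := by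
    by_cases hm : II κ (g * u * g⁻¹) ↔ II κ (t * (g * u * g⁻¹) * t⁻¹)
    · have hi : II κ (g * u * g⁻¹) := by
        by_contra hn
        exact h6 (s.mul_mem_N1 h7 hu (by tauto) (by rw [e]; tauto))
      obtain ⟨R, r1, r2, r3, r4⟩ := s.lower1 hL u2 h7 hi (hm.1 hi)
      exact ⟨R, r1, r2, r3, by nlinarith⟩
    · obtain ⟨R, r1, r2, r3, r4⟩ := s.lower2 hL u2 uF h7 hq hm
      exact ⟨R, r1, r2, r3, by nlinarith⟩
  obtain ⟨Q, q1, q2, q3, q4⟩ := s.upper F ut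
  obtain ⟨Q₂, p1, p2, p3⟩ : ∃ Q₂ ≤ Q, Q₂ ≤ N1 t K ∧ Nat.card Q ≤ 4 * Nat.card Q₂ := by
    rcases h3 with h3 | h3
    · obtain ⟨Q₁, a1, a2, a3⟩ := s.sgn1.card (q1.trans h3)
      obtain ⟨Q₂, b1, b2, b3⟩ := s.sgn2.card (a1.trans (q1.trans h3))
      exact ⟨Q₂, b1.trans a1, fun x hx => (s.mem_N1' (h3 (q1 (a1 (b1 hx))))).2 ⟨a2 x (b1 hx), b2 x hx⟩,
        by omega⟩
    · obtain ⟨Q₁, a1, a2, a3⟩ := s.sgnH.card (q1.trans inf_le_left)
      obtain ⟨Q₂, b1, b2, b3⟩ := s.sgn1.card (Q := Q₁) a2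
      exact ⟨Q₂, b1.trans a1, fun x hx => (s.mem_N1' (a2 x (b1 hx))).2
        ⟨b2 x hx, (h3 x (q1 (a1 (b1 hx))).2 (a2 x (b1 hx))).1 (b2 x hx)⟩, by omega⟩
  have h8 := s.card_le_out (q2.to_le p1) p2 hα hr ut fun x hx => q3 x (p1 hx)
  have h9 := q4 R r1 r2 r3
  omega

/-- an element of type (outer, outer) is congruent to an involution of `C(t)` -/
theorem exists_inv {h : G} (hh : h ∈ H0 t K) (h1 : ¬ II κ h) (h2 : ¬ II κ (t * h * t⁻¹))
    {α₀ : MulAut A} (h0 : OI α₀) : ∃ u ∈ H0 t K, u * u = 1 ∧ Commute u t ∧ Act κ u α₀ := by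
  have ti := s.ti
  have h3 := conj_mem_H0 s.tt hh
  have h4 := s.mul_mem_N1 hh (inv_mem h3) (by rw [s.sgn1.inv h3]; tauto)
    (by rw [s.sgn2.inv h3]; simp only [tt_conj s.tt]; tauto)
  obtain ⟨x, hx, y, hy, c, hc, e⟩ := s.mem_N1.1 h4
  have e1 : x⁻¹ * (h * t * h⁻¹) * x = t * (y * x) * t⁻¹ * c * t := by
    calc x⁻¹ * (h * t * h⁻¹) * x = x⁻¹ * (h * (t * h * t⁻¹)⁻¹) * t * x := by group
      _ = t * y * t⁻¹ * (c * (t * x * t⁻¹)) * t := by rw [e]; group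
      _ = _ := by rw [(C0_comm' s.tt hc hx).eq]; group
  have e2 : t * (y * x) * t⁻¹ * c * t * (t * (y * x) * t⁻¹ * c * t) = 1 := by
    have := sq_conj (sq_conj s.tt h) x⁻¹
    rwa [inv_inv, e1] at this
  have c0 : t * (y * x) * t⁻¹ * c ∈ centralizer (K : Set G) :=
    mul_mem (fun k hk => (s.W.comm k hk _ (mul_mem hy hx)).eq) hc.1
  generalize t * (y * x) * t⁻¹ * c = d at e1 e2 c0
  have e3 : t * d * t⁻¹ = d⁻¹ := eq_inv_of_mul_eq_one_right (by rw [ti, ← e2]; group)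
  have c1 : d ∈ C0 t K := mem_C0.2 ⟨c0, e3 ▸ inv_mem c0⟩
  obtain ⟨k, hk⟩ := s.odd_C0
  have pw : ∀ c ∈ C0 t K, c ^ (2 * k + 1) = 1 := fun c hc => by
    rw [← hk]; exact congrArg Subtype.val (pow_card_eq_one' (x := (⟨c, hc⟩ : C0 t K)))
  have n1 : d ^ k * x⁻¹ ∈ N1 t K :=
    mul_mem (mem_sup_right (pow_mem c1 k)) (mem_sup_left (mem_sup_left (inv_mem hx)))
  have f1 : Commute (d ^ k * x⁻¹ * h) t := by
    refine mul_inv_eq_iff_eq_mul.1 ?_
    calc d ^ k * x⁻¹ * h * t * (d ^ k * x⁻¹ * h)⁻¹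
        = d ^ k * (x⁻¹ * (h * t * h⁻¹) * x) * (d ^ k)⁻¹ := by group
      _ = d ^ k * d * ((t * d * t⁻¹) ^ k)⁻¹ * t := by rw [e1, conj_pow]; group
      _ = d ^ (2 * k + 1) * t := by rw [e3]; group
      _ = t := by rw [pw d c1, one_mul]
  have f2 := mul_mem (s.N1_le n1) hh
  have f3 : ¬ II κ (d ^ k * x⁻¹ * h) := by
    have := s.sgn1 _ (s.N1_le n1) _ hh
    have := (s.mem_N1' (s.N1_le n1)).1 n1
    tauto
  generalize d ^ k * x⁻¹ * h = f at f1 f2 f3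
  obtain ⟨α, hα⟩ := s.exists_act f2.1
  have ho : ¬ Inn α := fun hi => f3 ((s.ii_iff hα).2 hi)
  obtain ⟨a, ha⟩ := s.hA.out2 _ _ h0.1 (inn_inv_iff.not.2 ho)
  obtain ⟨w, rfl⟩ := s.cov.onto a
  have g1 := (s.act_left w w.2).mul hα
  rw [← ha, inv_mul_cancel_right] at g1
  have g2 : Commute ((w : G) * (t * w * t⁻¹) * f) t :=
    (s.C.tL _ ((s.W.diag _).2 ⟨w, w.2, rfl⟩)).symm.mul_left f1
  have g3 : (w : G) * (t * w * t⁻¹) * f ∈ H0 t K :=
    mul_mem (mul_mem (s.K_le_H0 w.2) (conj_mem_H0 s.tt (s.K_le_H0 w.2))) f2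
  generalize (w : G) * (t * w * t⁻¹) * f = u at g1 g2 g3
  have g5 : u * u ∈ C0 t K := by
    have := g1.mul g1
    rw [h0.2] at this
    exact s.mem_C0_of_act this (by rwa [← (g2.mul_left g2).eq, mul_inv_cancel_right])
  refine ⟨u ^ (2 * k + 1), pow_mem g3 _, by rw [← (Commute.refl u).mul_pow, pw _ g5], g2.pow_left _, ?_⟩
  have g6 : u ^ (2 * k) ∈ C0 t K := by rw [pow_mul, pow_two]; exact pow_mem g5 k
  rw [pow_succ]
  simpa using (Act.of_comm κ fun _ => C0_comm g6).mul g1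

theorem inner (hF : IsSimpleGroup F) (hL : L ≤ F) : HH t K ⊓ F ≤ N1 t K := by
  intro h hh
  by_contra hn
  obtain ⟨h₀, a1, a2, a3, a4⟩ : ∃ h₀ ∈ H0 t K, ¬ II κ h₀ ∧ ¬ II κ (t * h₀ * t⁻¹) ∧ (h₀ ∈ F ∨ h₀ * t ∈ F) := by
    by_cases h0 : h ∈ H0 t K
    · by_cases hm : II κ h ↔ II κ (t * h * t⁻¹)
      · have := s.mem_N1' h0
        exact ⟨h, h0, by tauto, by tauto, Or.inl hh.2⟩
      · exact ⟨_, mul_mem h0 (conj_mem_H0 s.tt h0), (s.mixed h0 hm).1, (s.mixed h0 hm).2,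
          Or.inl (mul_mem hh.2 (‹F.Normal›.conj_mem h hh.2 t))⟩
    · have h1 := (s.mul_t hh.1).2 h0
      by_cases hm : II κ (h * t) ↔ II κ (t * (h * t) * t⁻¹)
      · have := s.mem_N1' h1
        have := s.step2 hF hL hh.2
        exact ⟨_, h1, by tauto, by tauto, Or.inr (by rw [mul_assoc, s.tt, mul_one]; exact hh.2)⟩
      · refine ⟨_, mul_mem h1 (conj_mem_H0 s.tt h1), (s.mixed h1 hm).1, (s.mixed h1 hm).2, Or.inl ?_⟩
        rw [show h * t * (t * (h * t) * t⁻¹) = h * (t * t) * h by group, s.tt, mul_one]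
        exact mul_mem hh.2 hh.2
  obtain ⟨α₀, hα₀⟩ := s.exists_act a1.1
  obtain ⟨α, r, q, o1, o2, o3, o4, o5⟩ := s.small α₀ fun hi => a2 ((s.ii_iff hα₀).2 hi)
  obtain ⟨u, b1, b2, b3, b5⟩ := s.exists_inv a1 a2 a3 o1
  have b4 : ¬ II κ u := fun hi => o1.1 ((s.ii_iff b5).1 hi)
  have e : t * u * t⁻¹ = u := by rw [← b3.eq, mul_inv_cancel_right]
  have h1 := s.mul_mem_N1 b1 (inv_mem a1) (by rw [s.sgn1.inv a1]; tauto)
    (by rw [s.sgn2.inv a1, e]; tauto)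
  rcases a4 with a4 | a4
  · exact s.step6 hF hL b2 (s.mem_F hL b2 h1 (by simpa [mul_assoc] using a4)) b3 b1 b5 b4 o2 o3 o4 o5
  · have h2 : u * t * (u * t) = 1 := by rw [b3.symm.mul_mul_mul_comm, b2, s.tt, one_mul]
    refine s.step5 hF hL h2 (s.mem_F hL h2 h1 (by simpa [mul_assoc] using a4))
      (b3.mul_left (Commute.refl t)) ?_
    rwa [mul_assoc, s.tt, mul_one]

end Gz

/-- 2-subgroups of `N1` -/
theorem Gz.card_le (s : Gz z c S m t L π O K κ) {T : Subgroup G} (hT : IsPGroup 2 T)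
    (hle : T ≤ N1 t K) : Nat.card T ≤ Nat.card S ^ 2 := by
  have := s.fin
  obtain ⟨θ, hθ⟩ := s.cov.exists_hom fun _ => s.hA.eq_one
  have m1 : ∀ g : T, T.subtype g ∈ normalizer (K : Set G) := fun g => (s.N1_le (hle g.2)).1
  have m2 : ∀ g : T, ((MulAut.conj t).toMonoidHom.comp T.subtype) g ∈ normalizer (K : Set G) :=
    fun g => (mem_H0.1 (s.N1_le (hle g.2))).2
  let f₁ : T →* MulAut A := θ.comp (T.subtype.codRestrict _ m1)
  let f₂ : T →* MulAut A := θ.comp (((MulAut.conj t).toMonoidHom.comp T.subtype).codRestrict _ m2)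
  have a1 : ∀ g : T, Act κ g (f₁ g) := fun g => hθ ⟨g, m1 g⟩
  have a2 : ∀ g : T, Act κ (t * g * t⁻¹) (f₂ g) := fun g => hθ ⟨_, m2 g⟩
  have hi : ∀ g : T, Inn (f₁ g) ∧ Inn (f₂ g) := fun g => (s.mem_N1_iff (a1 g) (a2 g)).1 (hle g.2)
  have c1 := s.hA.card_inn (hT.of_surjective _ f₁.rangeRestrict_surjective)
    (by rintro _ ⟨g, rfl⟩; exact (hi g).1)
  have c2 := s.hA.card_inn (hT.of_surjective _ f₂.rangeRestrict_surjective)
    (by rintro _ ⟨g, rfl⟩; exact (hi g).2)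
  have hinj : Function.Injective (f₁.rangeRestrict.prod f₂.rangeRestrict) :=
    (injective_iff_map_eq_one _).2 fun g hg => by
      have e1 : f₁ g = 1 := congrArg Subtype.val (congrArg Prod.fst hg)
      have e2 : f₂ g = 1 := congrArg Subtype.val (congrArg Prod.snd hg)
      exact Subtype.ext (s.eq_one_of_C0 (s.mem_C0_of_act (e1 ▸ a1 g) (e2 ▸ a2 g)) (Fn.two hT g.2))
  have : Finite f₁.range := Finite.of_surjective _ f₁.rangeRestrict_surjective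
  have : Finite f₂.range := Finite.of_surjective _ f₂.rangeRestrict_surjective
  have h := Nat.card_le_card_of_injective _ hinj
  rw [Nat.card_prod] at h
  rw [pow_two]
  exact h.trans (Nat.mul_le_mul c1 c2)

theorem Gz.false (s : Gz z c S m t L π O K κ) {F : Subgroup G} [F.Normal]
    (hF : IsSimpleGroup F) (hL : L ≤ F) : False := by
  have hA := s.hA
  have C := s.C
  have W := s.W
  have D := s.cov
  have := s.fin
  have hK := s.K_le hL
  obtain ⟨j, ji, jk, jp⟩ := D.lift S.isPGroup'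
  choose k hk1 hk2 using jk
  have mK : ∀ y, j y ∈ K := fun y => hk1 y ▸ (k y).2
  have p2 : ∀ y, IsPGroup 2 (zpowers (j y)) := fun y => Fn.two jp ⟨y, rfl⟩
  let j' : (S : Subgroup A) →* G := (MulAut.conj t).toMonoidHom.comp j
  have hc : ∀ x y, Commute (j x) (j' y) := fun x y => W.comm _ (mK x) _ (mK y)
  let φ := j.noncommCoprod j' hc
  have hφ : ∀ p, φ p = j p.1 * (t * j p.2 * t⁻¹) := fun _ => rfl
  have φ1 : ∀ x, φ (x, 1) = j x := fun x => by rw [hφ]; simp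
  have φ2 : ∀ x, φ (1, x) = t * j x * t⁻¹ := fun x => by rw [hφ]; simp
  have nF : F.Normal := inferInstance
  have inj : Function.Injective φ := (injective_iff_map_eq_one φ).2 fun p hp => by
    rw [hφ] at hp
    have h2 : j p.2 = 1 := s.inf_two (mK _) (by
      rw [eq_inv_of_mul_eq_one_right hp]; exact inv_mem (mK _)) (p2 _)
    rw [h2, mul_one, mul_inv_cancel, mul_one] at hp
    exact Prod.ext (ji (hp.trans j.map_one.symm)) (ji (h2.trans j.map_one.symm))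
  have sw : ∀ p, t * φ p * t⁻¹ = φ p.swap := fun p => by
    rw [hφ, hφ, Prod.fst_swap, Prod.snd_swap, (W.comm _ (mK p.2) _ (mK p.1)).eq]
    conv_rhs => rw [← tt_conj s.tt (j p.2)]
    group
  have le : ∀ p, φ p ∈ F := fun p => mul_mem (hK (mK _)) (nF.conj_mem _ (hK (mK _)) t)
  have fu : ∀ a b : (S : Subgroup A), IsConj (b : A) a → Fu φ F a b := fun a b h => by
    obtain ⟨g, hg⟩ := isConj_iff.1 h.symm
    obtain ⟨x, rfl⟩ := D.onto g
    refine ⟨x, hK x.2, ?_, fun y => by rw [φ2]; exact W.comm _ x.2 _ (mK y)⟩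
    rw [φ1, φ1, ← hk1, ← hk1]
    exact congrArg Subtype.val (D.two_inj (x := x * k a * x⁻¹) (y := k b)
      (two_conj (x := (k a : G)) (hk1 a ▸ p2 a) x) (hk1 _ ▸ p2 _) (by rw [map_mul, map_mul, map_inv, hk2, hk2, hg]))
  refine Fs.false (z := ⟨z, hA.zS⟩) (c := ⟨c, hA.cS⟩) (φ := φ) (t := t) (M := F)
    { pg := S.isPGroup'
      z2 := by rw [← orderOf_coe]; exact hA.z2
      c2 := by rw [← orderOf_coe]; exact hA.c2
      ZS := fun x => ?_
      zder := ?_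
      invS := ?_
      inj := inj
      t2 := C.tt
      sw := sw
      nM := nF
      simple := hF
      le := le
      syl := fun Q hQ pQ => ?_
      der := ⟨K.map (MulAut.conj t).toMonoidHom, ?_, ?_, fun y => ?_⟩
      cls := fun a ha => ?_ }
  · rw [Subtype.ext_iff, Subtype.ext_iff]
    exact ⟨fun h => (hA.ZS x).1 ⟨x.2, fun y hy => congrArg Subtype.val (h ⟨y, hy⟩).eq⟩,
      fun h y => Subtype.ext (((hA.ZS x).2 h).2 y y.2).eq⟩
  · have h := hA.z_der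
    rw [← map_subtype_commutator] at h
    obtain ⟨y, hy, e⟩ := h
    rwa [show y = ⟨z, hA.zS⟩ from Subtype.ext e] at hy
  · have h := gen_sub le_rfl hA.invS
    rw [subgroupOf_self] at h
    exact top_le_iff.1 (h.trans (closure_mono fun x hx => hx.2))
  · obtain ⟨T, h1, h2, h3⟩ := s.exists_syl F
    refine le_trans ?_ (s.card_le h2 (h1.trans (s.inner hF hL)))
    exact (sylIn_of_not_dvd_relIndex h2 (h1.trans inf_le_right)
      (fun e => Nat.not_even_iff_odd.2 h3 (even_iff_two_dvd.2 e))).card_le pQ hQ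
  · rintro _ ⟨x, hx, rfl⟩
    exact nF.conj_mem _ (hK hx) t
  · rintro _ ⟨x, hx, rfl⟩ y
    rw [φ1]
    exact (W.comm _ (mK y) _ hx).symm
  · rw [← map_commutator, W.perf, φ2]
    exact ⟨_, mK y, rfl⟩
  by_cases hz : IsConj z a
  · exact Or.inl (fu a _ hz)
  have hca := (hA.cls a (by rw [orderOf_coe]; exact ha)).resolve_left hz
  have hzc : ¬ IsConj z c := fun h => hz (h.trans hca)
  have cm : Nat.card (centralizer ({⟨c, hA.cS⟩} : Set (S : Subgroup A))) = m :=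
    (card_cen_sub _ _).trans hA.cm
  refine Or.inr ⟨fu a _ hca, ?_, ?_, ?_, ?_, ?_, ?_, fun Q pQ h1 h2 => ?_⟩
  · obtain ⟨g, hg⟩ := isConj_iff.1 hca.symm
    rw [cm, card_cen_sub, ← card_cj g]
    refine hA.cext hzc _ ?_ (isPGroup_cj g S.isPGroup'.to_inf_left)
    rw [← hg, ← cj_centralizer_singleton]
    exact cj_mono g inf_le_right
  · refine lt_of_le_of_ne (card_le_card_group _) fun h => ?_
    have h1 := eq_top_of_card_eq _ h
    rcases (hA.ZS c).1 ⟨hA.cS, fun x hx => show c * x = x * c from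
      (congrArg Subtype.val (Fn.cen.1 (h1.ge (mem_top ⟨x, hx⟩)))).symm⟩ with h2 | h2
    exacts [Fn.ne hA.c2 h2, hzc (h2 ▸ IsConj.refl _)]
  · have h1 : SylIn 2 ((S : Subgroup A) ⊓ centralizer {c}) (centralizer {c}) :=
      ⟨inf_le_right, S.isPGroup'.to_inf_left, fun Q pQ h1 h2 =>
        (eq_of_le_of_card_ge h1 (hA.cm ▸ hA.cext hzc Q h2 pQ)).symm⟩
    have h2 := CL.WR.Fn.tr h1 ⟨hA.cS, Fn.cen.2 rfl⟩ (fun _ => Fn.cen.1) hA.derc
    rw [← map_subgroupOf_eq_of_le (inf_le_left : (S : Subgroup A) ⊓ centralizer {c} ≤ S),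
      ← map_commutator] at h2
    obtain ⟨y, hy, e⟩ := h2
    rw [Cd, cen_sub]
    rwa [show y = ⟨c, hA.cS⟩ from Subtype.ext e] at hy
  · rw [cen_sub]
    exact gen_sub inf_le_left hA.invc
  · rintro _ ⟨p, hp, rfl⟩
    exact ⟨le p, Fn.cen.2 (Commute.map (Prod.ext (Fn.cen.1 hp.1) (Fn.cen.1 hp.2)) φ).eq⟩
  · exact CL.WR.Pr_pg (S.isPGroup'.to_subgroup _) (S.isPGroup'.to_subgroup _)
  · have ut : Commute (φ (⟨c, hA.cS⟩, ⟨c, hA.cS⟩)) t :=
      (mul_inv_eq_iff_eq_mul.1 (sw (⟨c, hA.cS⟩, ⟨c, hA.cS⟩))).symm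
    obtain ⟨R, r1, r2, r3, r4⟩ := s.upper F ut
    have h3 := s.act_left (k ⟨c, hA.cS⟩) (mK ⟨c, hA.cS⟩)
    rw [hk1, hk2, ← hφ (⟨c, hA.cS⟩, ⟨c, hA.cS⟩)] at h3
    have h4 := s.card_le_out r2 (r1.trans (s.inner hF hL)) h3 (fix_conj c ▸ hA.cext hzc) ut r3
    refine (eq_of_le_of_card_ge h1 ?_).symm
    refine ((r4 Q (h2.trans inf_le_left) pQ fun x hx => (Fn.cen.1 (h2 hx).2).symm).trans h4).trans_eq ?_
    rw [Pd, card_map_of_injective inj, Nat.card_congr (prodEquiv _ _).toEquiv, Nat.card_prod, cm]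

end CL.WX.G6
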